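import Cfsg.Agent.H92.SuzSection.Split
import Cfsg.Agent.H13.ConwayFive.Levels
import Cfsg.Agent.H92.Extra
import Cfsg.Agent.H92.ExtraIso
import Cfsg.Agent.H41.CoSec.Omega
import Cfsg.Agent.Components.Layer
import Cfsg.Agent.Components.Fitting

/-!
For an element `x` of order three acting on the quadratic space as the standard three-cycle, the
quotient of the centraliser of `x` by its powers has an involution whose centraliser is of the
shape of the centraliser of a central involution of the Suzuki group.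
-/

set_option autoImplicit false
set_option linter.style.haveILetI false
set_option linter.unusedSectionVars false
set_option maxRecDepth 100000
set_option synthInstance.maxSize 4000

namespace Cfsg.Agent.H92.SuzSection

open QuadraticMap Cfsg.Agent.Orthogonal Cfsg.Agent.H73.Conway Cfsg.Agent.H92.ExtraForm
  Cfsg.Agent.H13.ConwayFive Subgroup

instance : Finite (O phi) :=
  Finite.of_injective (fun g : O phi => ((g : V8 ≃ₗ[ZMod 2] V8) : V8 → V8)) fun _ _ e =>
    O.ext_app (congrFun e)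

instance : Finite (O fm) :=
  Finite.of_injective (fun g : O fm => ((g : W6 ≃ₗ[ZMod 2] W6) : W6 → W6)) fun _ _ e =>
    O.ext_app (congrFun e)

variable {G : Type*} [Group G] [Finite G] {z : G} {Q : Subgroup G}

/-- An element of order three in standard form. -/
structure Three (h : H73.Conway.Setup z Q) (x : G) : Prop where
  x3 : orderOf x = 3
  xz : x * z = z * x
  ρx : h.ρ x = alpha3

/-- The elements centralising `z` and `x`. -/
abbrev Dx (z x : G) : Subgroup G := centralizer ({z} : Set G) ⊓ centralizer ({x} : Set G)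

/-- The part of `Q` centralising `x`. -/
abbrev Qx (Q : Subgroup G) (x : G) : Subgroup G := Q ⊓ centralizer ({x} : Set G)

namespace Three

variable {h : H73.Conway.Setup z Q} {x : G} (T : Three h x)
include T

theorem x_cube : x ^ 3 = 1 := T.x3 ▸ pow_orderOf_eq_one x

theorem exists_pow {w : G} (hw : w ∈ zpowers x) : ∃ i : ℕ, x ^ i = w :=
  (mem_powers_iff_mem_zpowers.mpr hw)

theorem pow_Q {i : ℕ} (hi : x ^ i ∈ Q) : x ^ i = 1 := by
  have h4 := h.pow_four hi
  have h3 : (x ^ i) ^ 3 = 1 := by rw [← pow_mul, Nat.mul_comm, pow_mul, T.x_cube, one_pow]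
  calc x ^ i = (x ^ i) ^ 4 * ((x ^ i) ^ 3)⁻¹ := by rw [eq_mul_inv_iff_mul_eq, ← pow_succ']
    _ = 1 := by rw [h4, h3, inv_one, mul_one]

theorem mem_Qx {q : G} (hq : q ∈ Q) : q * x = x * q ↔ prP (h.π q) = 0 := by
  rw [← af_fix, ← alpha3_app, ← T.ρx, ← h.ρ_π x T.xz q hq]
  constructor
  · intro e; rw [← e, mul_inv_cancel_right]
  · intro e
    exact (commute_of_odd h (h.π_eq hq (h.norm x T.xz q hq) e.symm) T.xz (by decide : Odd 3)
      T.x_cube).symm

theorem card_Qx : Nat.card (Qx Q x) = 128 := by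
  classical
  choose sec hsecQ hsec using h.π_surj
  have hzp : ∀ i : ZMod 2, zp z i ∈ Q ∧ h.π (zp z i) = 0 := fun i => by
    rcases two_cases' i with rfl | rfl <;> simp [zp, h.hzQ, h.π_one, h.π_z]
  have hπ : ∀ u i, h.π (sec (inj u) * zp z i) = inj u := fun u i => by
    rw [h.π_mul _ (hsecQ _) _ (hzp i).1, hsec, (hzp i).2, add_zero]
  have hmem : ∀ u i, sec (inj u) * zp z i ∈ Qx Q x := fun u i => by
    have hQ : sec (inj u) * zp z i ∈ Q := mul_mem (hsecQ _) (hzp i).1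
    exact mem_inf.mpr ⟨hQ, mem_centralizer_singleton_iff.mpr
      ((T.mem_Qx hQ).mpr (by rw [hπ]; exact prP_inj u))⟩
  let f : W6 × ZMod 2 → Qx Q x := fun p => ⟨_, hmem p.1 p.2⟩
  have hbij : Function.Bijective f := by
    refine ⟨fun p p' e => ?_, fun q => ?_⟩
    · have e' : sec (inj p.1) * zp z p.2 = sec (inj p'.1) * zp z p'.2 := congrArg Subtype.val e
      have e1 : p.1 = p'.1 := by
        have := congrArg (fun g => co (h.π g)) e'
        simpa [hπ, co_inj] using this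
      rw [← e1] at e'
      exact Prod.ext e1 (H92.ExtraForm.zp_inj h.z_ne (mul_left_cancel e'))
    · obtain ⟨hqQ, hqx⟩ := mem_inf.mp q.2
      have hv : h.π q = inj (co (h.π q)) := by
        conv_lhs => rw [← split (h.π q),
          (T.mem_Qx hqQ).mp (mem_centralizer_singleton_iff.mp hqx), zero_add]
      rcases h.π_eq (hsecQ (inj (co (h.π q)))) hqQ ((hsec _).trans hv.symm) with e | e
      · exact ⟨(co (h.π q), 0), Subtype.ext (by simp [f, zp, ← e])⟩
      · exact ⟨(co (h.π q), 1), Subtype.ext (by simp [f, zp, ← e])⟩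
  rw [← Nat.card_congr (Equiv.ofBijective f hbij), Nat.card_prod, Nat.card_fun, Nat.card_zmod,
    Nat.card_eq_fintype_card]
  rfl

theorem orderOf_alpha : orderOf alpha3 ≤ 3 :=
  Nat.le_of_dvd (by norm_num) (orderOf_dvd_of_pow_eq_one
    (by rw [← T.ρx, ← h.ρ_pow T.xz, T.x_cube, h.ρ_one]))

/-- An element whose image commutes with the three-cycle can be corrected to commute with `x`. -/
theorem exists_adjust {c : G} (hc : c * z = z * c) (hρ : h.ρ c ∈ Cen) :
    ∃ d ∈ Dx z x, h.ρ d = h.ρ c := by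
  classical
  haveI : Fact (Nat.Prime 3) := ⟨by norm_num⟩
  let r : centralizer ({z} : Set G) →* O phi := MonoidHom.mk' (fun g => h.ρ g) fun a b =>
    h.ρ_mul a b (mem_centralizer_singleton_iff.mp a.2) (mem_centralizer_singleton_iff.mp b.2)
  set M : Subgroup (centralizer ({z} : Set G)) := (zpowers alpha3).comap r with hM
  have h9 : ¬ 3 ^ 2 ∣ Nat.card M := fun hd => by
    obtain ⟨K, hK⟩ := Sylow.exists_subgroup_card_pow_prime 3 hd
    let f : K → zpowers alpha3 := fun k => ⟨r (k : M).1, (k : M).2⟩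
    have hf : Function.Injective f := by
      intro a b e
      have e' : r ((a : M).1) = r ((b : M).1) := congrArg Subtype.val e
      have hQ : (((a⁻¹ * b : K) : M) : G) ∈ Q :=
        (h.ρ_ker _ (mem_centralizer_singleton_iff.mp ((a⁻¹ * b : K) : M).1.2)).mp (by
          show r (((a⁻¹ * b : K) : M).1) = 1
          simp only [Subgroup.coe_mul, Subgroup.coe_inv, map_mul, map_inv, e', inv_mul_cancel])
      have h4 : (a⁻¹ * b) ^ 4 = 1 :=
        Subtype.ext (Subtype.ext (Subtype.ext (by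
          simpa only [SubmonoidClass.coe_pow, OneMemClass.coe_one] using h.pow_four hQ)))
      have h9' : (a⁻¹ * b) ^ 9 = 1 := by
        have := pow_card_eq_one' (x := a⁻¹ * b)
        rwa [hK] at this
      refine inv_mul_eq_one.mp ?_
      calc a⁻¹ * b = (a⁻¹ * b) ^ 9 * (((a⁻¹ * b) ^ 4) ^ 2)⁻¹ := by
            rw [eq_mul_inv_iff_mul_eq, ← pow_mul, ← pow_succ']
        _ = 1 := by rw [h4, h9']; simp
    have h1 := Nat.card_le_card_of_injective f hf
    rw [hK, Nat.card_zpowers] at h1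
    have := T.orderOf_alpha
    omega
  set xM : M := ⟨⟨x, mem_centralizer_singleton_iff.mpr T.xz⟩,
    show h.ρ x ∈ zpowers alpha3 by rw [T.ρx]; exact mem_zpowers _⟩ with hxM
  have hyρ : h.ρ (c * x * c⁻¹) = alpha3 := by
    rw [h.ρ_conj hc T.xz, T.ρx, mem_centralizer_singleton_iff.mp hρ, mul_inv_cancel_right]
  set yM : M := ⟨⟨c * x * c⁻¹, mem_centralizer_singleton_iff.mpr (h.conj_comm hc T.xz)⟩,
    show h.ρ (c * x * c⁻¹) ∈ zpowers alpha3 by rw [hyρ]; exact mem_zpowers _⟩ with hyM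
  have ho : orderOf xM = 3 := by
    rw [← orderOf_coe, ← orderOf_coe]; exact T.x3
  have hoy : orderOf yM = 3 := by
    rw [← orderOf_coe, ← orderOf_coe]
    exact (MulEquiv.orderOf_eq (MulAut.conj c) x).trans T.x3
  have hxcard : Nat.card (zpowers xM) = 3 := by rw [Nat.card_zpowers, ho]
  have hidx : ¬ 3 ∣ (zpowers xM).index := fun ⟨m, hm⟩ => h9 ⟨m, by
    rw [← (zpowers xM).card_mul_index, hxcard, hm]; ring⟩
  have hpx : IsPGroup 3 (zpowers xM) := IsPGroup.of_card (n := 1) (by rw [hxcard]; norm_num)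
  have hpy : IsPGroup 3 (zpowers yM) := IsPGroup.of_card (n := 1) (by
    rw [Nat.card_zpowers, hoy]; norm_num)
  obtain ⟨S, hS⟩ := hpy.exists_le_sylow
  obtain ⟨m, hm⟩ := MulAction.exists_smul_eq M S (hpx.toSylow hidx)
  have hmem : m * yM * m⁻¹ ∈ zpowers xM := by
    have : m * yM * m⁻¹ ∈ ((m • S : Sylow 3 M) : Subgroup M) := by
      rw [Sylow.coe_subgroup_smul, mem_pointwise_smul_iff_inv_smul_mem, MulAut.smul_def]
      simp only [← map_inv, MulAut.conj_apply, inv_inv]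
      convert hS (mem_zpowers _) using 1
      group
    rw [hm] at this
    exact this
  set mg : G := ((m : centralizer ({z} : Set G)) : G) with hmg
  have hmz : mg * z = z * mg := mem_centralizer_singleton_iff.mp (m : centralizer ({z} : Set G)).2
  obtain ⟨i, hi⟩ := mem_powers_iff_mem_zpowers.mpr hmem
  have hi' : x ^ i = mg * (c * x * c⁻¹) * mg⁻¹ := by
    have := congrArg (fun w : M => ((w : centralizer ({z} : Set G)) : G)) hi
    simpa [hxM, hyM, hmg] using this
  obtain ⟨j, hj⟩ := mem_powers_iff_mem_zpowers.mpr (show h.ρ mg ∈ zpowers alpha3 from m.2)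
  change alpha3 ^ j = h.ρ mg at hj
  have hρm : h.ρ mg * alpha3 * (h.ρ mg)⁻¹ = alpha3 := by
    rw [← hj, (Commute.pow_self alpha3 j).eq, mul_inv_cancel_right]
  have hxi : x ^ i = x := by
    have hρi : h.ρ (x ^ i) = alpha3 := by
      rw [hi', h.ρ_conj hmz (h.conj_comm hc T.xz), hyρ, hρm]
    have hxz : Commute x z := T.xz
    have hQ : x ^ i * x⁻¹ ∈ Q := (h.ρ_ker _ (h.mul_comm' (hxz.pow_left i).eq (h.inv_comm T.xz))).mp
      (by rw [h.ρ_mul _ _ (hxz.pow_left i).eq (h.inv_comm T.xz), hρi, h.ρ_inv T.xz, T.ρx,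
        mul_inv_cancel])
    obtain ⟨k, hk⟩ := T.exists_pow (show x ^ i * x⁻¹ ∈ zpowers x from
      mul_mem (pow_mem (mem_zpowers x) i) (inv_mem (mem_zpowers x)))
    rw [← hk] at hQ
    exact mul_inv_eq_one.mp (hk ▸ T.pow_Q hQ)
  rw [hxi] at hi'
  have hxjz : (x ^ j) * z = z * x ^ j := ((show Commute x z from T.xz).pow_left j).eq
  refine ⟨(x ^ j)⁻¹ * (mg * c), mem_inf.mpr ⟨mem_centralizer_singleton_iff.mpr
    (h.mul_comm' (h.inv_comm hxjz) (h.mul_comm' hmz hc)), mem_centralizer_singleton_iff.mpr ?_⟩, ?_⟩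
  · refine (Commute.mul_left ((Commute.self_pow x j).symm.inv_left) ?_).eq
    show mg * c * x = x * (mg * c)
    conv_rhs => rw [hi']
    group
  · rw [h.ρ_mul _ _ (h.inv_comm hxjz) (h.mul_comm' hmz hc), h.ρ_inv hxjz, h.ρ_pow T.xz, T.ρx,
      h.ρ_mul _ _ hmz hc, ← hj, inv_mul_cancel_left]

theorem Dx_z {c : G} (hc : c ∈ Dx z x) : c * z = z * c :=
  mem_centralizer_singleton_iff.mp (mem_inf.mp hc).1

theorem Dx_x {c : G} (hc : c ∈ Dx z x) : c * x = x * c :=
  mem_centralizer_singleton_iff.mp (mem_inf.mp hc).2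

theorem rho_cen {c : G} (hc : c ∈ Dx z x) : h.ρ c ∈ Cen := by
  refine mem_centralizer_singleton_iff.mpr ?_
  rw [← T.ρx, ← h.ρ_mul _ _ (T.Dx_z hc) T.xz, T.Dx_x hc, h.ρ_mul _ _ T.xz (T.Dx_z hc)]

/-- The action on the fixed space. -/
noncomputable def psi : Dx z x →* O fm :=
  res.comp (MonoidHom.mk' (fun c => (⟨h.ρ c, T.rho_cen c.2⟩ : Cen)) fun a b =>
    Subtype.ext (h.ρ_mul a b (T.Dx_z a.2) (T.Dx_z b.2)))

theorem fm_nondeg : Nondeg fm :=
  formMinus_nondeg (F := ZMod 2) (m := 2) H41.CoSec.aniso_one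

theorem commutator_index : (commutator (O fm)).index = 2 :=
  index_commutator_eq_two T.fm_nondeg
    (reflGroup_eq_top T.fm_nondeg (Or.inr (by rw [finrank_formMinus]; norm_num))) (by decide)
    (by rw [finrank_formMinus]; norm_num)

theorem range_psi : T.psi.range = commutator (O fm) := by
  have hle : commutator (O fm) ≤ T.psi.range := by
    intro k hk
    have hK : ext k ∈ commutator (O phi) := by
      have := mem_map_of_mem ext hk
      rw [commutator_def, map_commutator] at this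
      exact commutator_mono le_top le_top this
    obtain ⟨c, hc, he⟩ := h.ρ_surj _ hK
    obtain ⟨d, hd, hde⟩ := T.exists_adjust hc (by rw [he]; exact ext_cen k)
    refine ⟨⟨d, hd⟩, ?_⟩
    show res ⟨h.ρ d, _⟩ = k
    conv_rhs => rw [← res_ext k]
    exact congrArg res (Subtype.ext (hde.trans he))
  refine le_antisymm ?_ hle
  have hdvd := index_dvd_of_le hle
  rw [T.commutator_index] at hdvd
  rcases (Nat.dvd_prime Nat.prime_two).mp hdvd with e | e
  · exfalso
    obtain ⟨u, hu⟩ : ∃ u : W6, fm u = 1 := by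
      refine ⟨Pi.single (.inr 0) 1, ?_⟩
      rw [fm_eq]; decide +kernel
    obtain ⟨⟨d, hd⟩, hde⟩ : rO fm u ∈ T.psi.range := by rw [index_eq_one.mp e]; exact mem_top _
    have h1 : res ((⟨h.ρ d, T.rho_cen hd⟩ : Cen)⁻¹ * ⟨ext (rO fm u), ext_cen _⟩) = 1 := by
      rw [map_mul, map_inv, res_ext, show res ⟨h.ρ d, T.rho_cen hd⟩ = rO fm u from hde,
        inv_mul_cancel]
    have hK : (h.ρ d)⁻¹ * ext (rO fm u) ∈ commutator (O phi) := by
      have hα : alpha3 ∈ commutator (O phi) := T.ρx ▸ h.ρ_mem x T.xz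
      rcases res_ker _ h1 with e' | e' | e' <;>
        simp only [Subgroup.coe_mul, Subgroup.coe_inv] at e' <;> rw [e']
      exacts [one_mem _, hα, mul_mem hα hα]
    have h2 := mul_mem (h.ρ_mem d (T.Dx_z hd)) hK
    rw [mul_inv_cancel_left, ext_rO hu] at h2
    exact rO_not_mem_K (by rw [phi_eq, qV_inj, ← fm_eq, hu]; exact one_ne_zero) h2
  · exact (eq_of_le_of_card_ge hle (le_of_eq (by
      have h1 := (commutator (O fm)).card_mul_index
      have h2 := T.psi.range.card_mul_index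
      rw [T.commutator_index] at h1
      rw [e] at h2
      omega))).ge

theorem psi_ker {c : Dx z x} (hc : T.psi c = 1) :
    ∃ i : ℕ, (c : G) * x ^ i ∈ Qx Q x := by
  obtain ⟨i, hi⟩ : ∃ i : ℕ, h.ρ (c : G) * alpha3 ^ i = 1 := by
    have h3 : alpha3 ^ 3 = 1 := by rw [← T.ρx, ← h.ρ_pow T.xz, T.x_cube, h.ρ_one]
    rcases res_ker _ hc with e | e | e <;> change h.ρ (c : G) = _ at e <;> rw [e]
    · exact ⟨0, by simp⟩
    · exact ⟨2, by rw [← pow_succ']; exact h3⟩
    · exact ⟨1, by rw [pow_one, ← pow_two, ← pow_succ]; exact h3⟩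
  have hxi : x ^ i * z = z * x ^ i := ((show Commute x z from T.xz).pow_left i).eq
  refine ⟨i, mem_inf.mpr ⟨(h.ρ_ker _ (h.mul_comm' (T.Dx_z c.2) hxi)).mp ?_,
    mem_centralizer_singleton_iff.mpr
      (Commute.mul_left (show Commute (c : G) x from T.Dx_x c.2) (Commute.pow_self x i)).eq⟩⟩
  rw [h.ρ_mul _ _ (T.Dx_z c.2) hxi, h.ρ_pow T.xz, T.ρx, hi]

theorem psi_Q {c : Dx z x} (hc : (c : G) ∈ Q) : T.psi c = 1 := by
  show res ⟨h.ρ c, _⟩ = 1
  rw [← map_one res]
  exact congrArg res (Subtype.ext (h.ρ_Q hc))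

theorem psi_zpowers {c : Dx z x} (hc : (c : G) ∈ zpowers x) : T.psi c = 1 := by
  obtain ⟨i, hi⟩ := T.exists_pow hc
  show res ⟨h.ρ c, _⟩ = 1
  rw [show (⟨h.ρ c, T.rho_cen c.2⟩ : Cen) =
    ⟨alpha3, mem_centralizer_singleton_iff.mpr rfl⟩ ^ i from
      Subtype.ext (by
        rw [SubmonoidClass.coe_pow]; show h.ρ (c : G) = alpha3 ^ i
        rw [← hi, h.ρ_pow T.xz, T.ρx]), map_pow, res_alpha, one_pow]

/-- The hypotheses of the Suzuki uniqueness theorem for the centraliser of `x` modulo `x`. -/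
theorem suz_hyp (hQ : Cfsg.IsExtraspecial 2 Q)
    (hfuse : ∃ g : G, g * x = x * g ∧ g * z * g⁻¹ ∈ Q ∧ g * z * g⁻¹ ≠ z)
    (N : Subgroup (centralizer ({x} : Set G))) [N.Normal]
    (hN : ∀ w : centralizer ({x} : Set G), w ∈ N ↔ (w : G) ∈ zpowers x) :
    ∃ zb : (centralizer ({x} : Set G)) ⧸ N, orderOf zb = 2 ∧
      ∃ (Qb : Subgroup (centralizer ({zb} : Set ((centralizer ({x} : Set G)) ⧸ N))))
        (_ : Qb.Normal),
        Cfsg.generalizedFittingSubgroup (centralizer ({zb} : Set ((centralizer ({x} : Set G)) ⧸ N)))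
          = Qb ∧ Cfsg.IsExtraspecial 2 Qb ∧ Nat.card Qb = 2 ^ 7 ∧
        Nonempty ((centralizer ({zb} : Set ((centralizer ({x} : Set G)) ⧸ N))) ⧸ Qb ≃*
          Cfsg.Omega (ZMod 2) (Cfsg.quadFormMinus 2 (ZMod 2) 1 1)) ∧
        ∃ g : (centralizer ({x} : Set G)) ⧸ N,
          (∃ hq : g * zb * g⁻¹ ∈ centralizer ({zb} : Set ((centralizer ({x} : Set G)) ⧸ N)),
            (⟨g * zb * g⁻¹, hq⟩ : centralizer ({zb} : Set ((centralizer ({x} : Set G)) ⧸ N))) ∈ Qb)
          ∧ g * zb * g⁻¹ ≠ zb := by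
  classical
  have hzH : z ∈ centralizer ({x} : Set G) := mem_centralizer_singleton_iff.mpr T.xz.symm
  set zb : (centralizer ({x} : Set G)) ⧸ N := QuotientGroup.mk' N ⟨z, hzH⟩ with hzb
  set C := centralizer ({zb} : Set ((centralizer ({x} : Set G)) ⧸ N)) with hC
  have hDH : Dx z x ≤ centralizer ({x} : Set G) := inf_le_right
  have hmk : ∀ {u v : (centralizer ({x} : Set G))}, QuotientGroup.mk' N u = QuotientGroup.mk' N v →
      ∃ i : ℕ, (v : G) = (u : G) * x ^ i := by
    intro u v e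
    obtain ⟨i, hi⟩ := T.exists_pow ((hN _).mp (QuotientGroup.eq.mp e))
    exact ⟨i, by rw [hi]; simp⟩
  let f : Dx z x →* C :=
    ((QuotientGroup.mk' N).comp (Subgroup.inclusion hDH)).codRestrict C fun d => by
      refine mem_centralizer_singleton_iff.mpr ?_
      rw [MonoidHom.comp_apply, hzb, ← map_mul, ← map_mul]
      exact congrArg _ (Subtype.ext (T.Dx_z d.2))
  have hf : Function.Surjective f := by
    rintro ⟨c, hc⟩
    obtain ⟨g, rfl⟩ := QuotientGroup.mk'_surjective N c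
    have e := mem_centralizer_singleton_iff.mp hc
    obtain ⟨i, hi⟩ := hmk (u := ⟨z, hzH⟩) (v := g * ⟨z, hzH⟩ * g⁻¹)
      (by rw [map_mul, map_mul, map_inv, e, mul_inv_cancel_right])
    change (g : G) * z * (g : G)⁻¹ = z * x ^ i at hi
    have h2 : (x ^ i) ^ 2 = 1 := by
      have := congrArg (fun t => t * t) hi
      simp only [conj_mul, h.zz, mul_one, mul_inv_cancel] at this
      rw [← pow_two (z * x ^ i),
        ((show Commute z x from T.xz.symm).pow_right i).mul_pow, pow_two z, h.zz, one_mul] at this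
      exact this.symm
    have h1 : x ^ i = 1 := by
      calc x ^ i = (x ^ i) ^ 3 * ((x ^ i) ^ 2)⁻¹ := by
            rw [eq_mul_inv_iff_mul_eq, ← pow_succ']
        _ = 1 := by
          rw [h2, ← pow_mul, Nat.mul_comm, pow_mul, T.x_cube, one_pow, inv_one, mul_one]
    rw [h1, mul_one] at hi
    exact ⟨⟨g, mem_inf.mpr ⟨mem_centralizer_singleton_iff.mpr (mul_inv_eq_iff_eq_mul.mp hi), g.2⟩⟩,
      Subtype.ext rfl⟩
  have hfker : ∀ d : Dx z x, f d = 1 → (d : G) ∈ zpowers x := fun d hd =>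
    (hN _).mp ((QuotientGroup.eq_one_iff _).mp (congrArg Subtype.val hd))
  let ω : Dx z x →* Cfsg.Omega (ZMod 2) (Cfsg.quadFormMinus 2 (ZMod 2) 1 1) :=
    (omegaEquiv fm).symm.toMonoidHom.comp
      (T.psi.codRestrict (commutator (O fm)) fun d => T.range_psi ▸ ⟨d, rfl⟩)
  have hω1 : ∀ d, ω d = 1 ↔ T.psi d = 1 := fun d => by
    refine (MulEquiv.map_eq_one_iff (omegaEquiv fm).symm).trans ?_
    exact Subtype.ext_iff
  have hωs : Function.Surjective ω := by
    intro y
    obtain ⟨d, hd⟩ : ((omegaEquiv fm) y : O fm) ∈ T.psi.range := by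
      rw [T.range_psi]; exact ((omegaEquiv fm) y).2
    refine ⟨d, ?_⟩
    exact (congrArg (omegaEquiv fm).symm (Subtype.ext hd)).trans
      ((omegaEquiv fm).symm_apply_apply y)
  let χ : C →* Cfsg.Omega (ZMod 2) (Cfsg.quadFormMinus 2 (ZMod 2) 1 1) :=
    f.liftOfSurjective hf ⟨ω, fun d hd =>
      (hω1 d).mpr (T.psi_zpowers (hfker d hd))⟩
  have hχ : ∀ d, χ (f d) = ω d := fun d => MonoidHom.liftOfRightInverse_comp_apply _ _ _ _ d
  have hχs : Function.Surjective χ := fun y => by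
    obtain ⟨d, rfl⟩ := hωs y
    exact ⟨f d, hχ d⟩
  have hQD : Qx Q x ≤ Dx z x := fun q hq => mem_inf.mpr
    ⟨mem_centralizer_singleton_iff.mpr (h.le q (mem_inf.mp hq).1), (mem_inf.mp hq).2⟩
  let j : Qx Q x →* C := f.comp (Subgroup.inclusion hQD)
  have hj : Function.Injective j := (injective_iff_map_eq_one j).mpr fun q hq => by
    obtain ⟨i, hi⟩ := T.exists_pow (hfker _ hq)
    change x ^ i = (q : G) at hi
    exact Subtype.ext (hi ▸ T.pow_Q (hi ▸ (mem_inf.mp q.2).1))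
  have hjr : j.range = χ.ker := by
    ext c
    constructor
    · rintro ⟨q, rfl⟩
      exact (hχ _).trans ((hω1 _).mpr (T.psi_Q (mem_inf.mp q.2).1))
    · intro hc
      obtain ⟨d, rfl⟩ := hf c
      obtain ⟨i, hi⟩ := T.psi_ker ((hω1 d).mp ((hχ d).symm.trans hc))
      refine ⟨⟨_, hi⟩, Subtype.ext ?_⟩
      refine (QuotientGroup.mk'_eq_mk' N).mpr ⟨(Subgroup.inclusion hDH ⟨_, hQD hi⟩)⁻¹ *
        Subgroup.inclusion hDH d, (hN _).mpr ?_, mul_inv_cancel_left _ _⟩
      show ((d : G) * x ^ i)⁻¹ * (d : G) ∈ zpowers x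
      rw [mul_inv_rev, inv_mul_cancel_right]
      exact inv_mem (pow_mem (mem_zpowers x) i)
  have hzQ : z ∈ Qx Q x := mem_inf.mpr ⟨h.hzQ, hzH⟩
  have hcenQ : ∀ q ∈ Q, q * z = z * q := h.le
  have hzc : z ∈ (center Q).map Q.subtype :=
    ⟨⟨z, h.hzQ⟩, mem_center_iff.mpr fun q => Subtype.ext (h.le q q.2), rfl⟩
  have hperp : ∀ v : V8, prP v = 0 → v ≠ 0 → ∃ u : W6, pV v (inj u) = 1 := by decide +kernel
  have hext : Cfsg.IsExtraspecial 2 (Qx Q x) := by
    refine isExtraspecial_of_le hQ inf_le_left (fun q hq => ?_) ?_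
    · obtain ⟨hq1, hq2⟩ := mem_inf.mp hq
      obtain ⟨hqQ, hqx⟩ := mem_inf.mp hq1
      by_cases hv : h.π q = 0
      · rcases (h.π_zero q hqQ).mp hv with e | e
        · rw [e]; exact one_mem _
        · rw [e]; exact hzc
      obtain ⟨u, hu⟩ := hperp _ ((T.mem_Qx hqQ).mp (mem_centralizer_singleton_iff.mp hqx)) hv
      obtain ⟨r, hr, hrv⟩ := h.π_surj (inj u)
      have hrx : r ∈ Qx Q x := mem_inf.mpr ⟨hr, mem_centralizer_singleton_iff.mpr
        ((T.mem_Qx hr).mpr (by rw [hrv]; exact prP_inj u))⟩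
      have := (h.commute_iff hqQ hr).mp (mem_centralizer_iff.mp hq2 r hrx).symm
      rw [hrv, polar_eq, hu] at this
      exact absurd this one_ne_zero
    · obtain ⟨u, u', hu⟩ : ∃ u u' : W6, pV (inj u) (inj u') = 1 := by decide +kernel
      obtain ⟨q, hq, hqv⟩ := h.π_surj (inj u)
      obtain ⟨r, hr, hrv⟩ := h.π_surj (inj u')
      refine ⟨q, mem_inf.mpr ⟨hq, mem_centralizer_singleton_iff.mpr ((T.mem_Qx hq).mpr
        (by rw [hqv]; exact prP_inj u))⟩, r, mem_inf.mpr ⟨hr, mem_centralizer_singleton_iff.mpr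
        ((T.mem_Qx hr).mpr (by rw [hrv]; exact prP_inj u'))⟩, fun e => ?_⟩
      have := (h.commute_iff hq hr).mp e
      rw [hqv, hrv, polar_eq, hu] at this
      exact one_ne_zero this
  haveI : χ.ker.Normal := χ.normal_ker
  let eQ : Qx Q x ≃* χ.ker := (MonoidHom.ofInjective hj).trans (MulEquiv.subgroupCongr hjr)
  have hextb : Cfsg.IsExtraspecial 2 χ.ker := isExtraspecial_of_mulEquiv eQ hext
  have hsimple := H41.CoSec.simple_omega_six
  have hcentre := H41.CoSec.center_omega_six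
  have hcent : centralizer (χ.ker : Set C) ≤ χ.ker := by
    intro c hc
    obtain ⟨d, rfl⟩ := hf c
    refine (hχ d).trans ((hω1 d).mpr ?_)
    have hcomm : ∀ q ∈ Qx Q x, q * (d : G) = (d : G) * q := by
      intro q hq
      have e := congrArg Subtype.val
        (mem_centralizer_iff.mp hc (j ⟨q, hq⟩) (hjr ▸ ⟨⟨q, hq⟩, rfl⟩))
      obtain ⟨i, hi⟩ := hmk (u := Subgroup.inclusion hDH ⟨q, hQD hq⟩ * Subgroup.inclusion hDH d)
        (v := Subgroup.inclusion hDH d * Subgroup.inclusion hDH ⟨q, hQD hq⟩)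
        (by rw [map_mul, map_mul]; exact e)
      change (d : G) * q = q * (d : G) * x ^ i at hi
      have hQi : x ^ i ∈ Q := by
        have hdq : (d : G)⁻¹ * q⁻¹ * (d : G) ∈ Q := by
          have := h.norm _ (h.inv_comm (T.Dx_z d.2)) _ (inv_mem (mem_inf.mp hq).1)
          rwa [inv_inv] at this
        rw [show x ^ i = (d : G)⁻¹ * q⁻¹ * ((d : G) * q) by rw [hi]; group, ← mul_assoc]
        exact mul_mem hdq (mem_inf.mp hq).1
      rw [T.pow_Q hQi, mul_one] at hi
      exact hi.symm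
    refine O.ext_app fun u => ?_
    show co ((h.ρ (d : G) : V8 ≃ₗ[ZMod 2] V8) (inj u)) = u
    obtain ⟨q, hq, hqv⟩ := h.π_surj (inj u)
    rw [← hqv, ← h.ρ_π _ (T.Dx_z d.2) q hq, ← hcomm q (mem_inf.mpr ⟨hq,
      mem_centralizer_singleton_iff.mpr ((T.mem_Qx hq).mpr (by rw [hqv]; exact prP_inj u))⟩),
      mul_inv_cancel_right, hqv, co_inj]
  haveI := hsimple
  have hfit : Cfsg.fittingSubgroup C ≤ χ.ker := by
    intro c hc
    set F := Cfsg.fittingSubgroup C
    rcases Subgroup.Normal.eq_bot_or_eq_top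
      (Subgroup.Normal.map (H := F) inferInstance χ hχs) with e | e
    · exact MonoidHom.mem_ker.mpr (Subgroup.mem_bot.mp (e ▸ ⟨c, hc, rfl⟩))
    exfalso
    haveI : Group.IsNilpotent (Cfsg.Omega (ZMod 2) (Cfsg.quadFormMinus 2 (ZMod 2) 1 1)) := by
      refine Group.nilpotent_of_surjective (G := F) (χ.comp F.subtype) fun y => ?_
      obtain ⟨a, ha, rfl⟩ := (e ▸ Subgroup.mem_top y : y ∈ F.map χ)
      exact ⟨⟨a, ha⟩, rfl⟩
    haveI : Nontrivial (Cfsg.Omega (ZMod 2) (Cfsg.quadFormMinus 2 (ZMod 2) 1 1)) :=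
      IsSimpleGroup.toNontrivial
    exact Group.IsNilpotent.center_ne_bot _ hcentre
  haveI : Fact (Nat.Prime 2) := ⟨Nat.prime_two⟩
  have hnil : Group.IsNilpotent χ.ker := hextb.1.1.isNilpotent
  refine ⟨zb, ?_, χ.ker, inferInstance, ?_, hextb, ?_,
    ⟨QuotientGroup.quotientKerEquivOfSurjective χ hχs⟩, ?_⟩
  · refine orderOf_eq_prime (by rw [hzb, pow_two, ← map_mul,
      show (⟨z, hzH⟩ : (centralizer ({x} : Set G))) * ⟨z, hzH⟩ = 1 from Subtype.ext h.zz, map_one]) fun e => ?_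
    obtain ⟨i, hi⟩ := T.exists_pow ((hN _).mp ((QuotientGroup.eq_one_iff _).mp e))
    change x ^ i = z at hi
    exact h.z_ne (hi ▸ T.pow_Q (hi ▸ h.hzQ))
  · exact le_antisymm (Components.genFitting_le_of_centralizer_le _ hfit hcent)
      ((le_sSup (show χ.ker ∈ {K : Subgroup C | K.Normal ∧ Group.IsNilpotent K} from
        ⟨inferInstance, hnil⟩)).trans le_sup_right)
  · rw [← Nat.card_congr eQ.toEquiv, T.card_Qx]; norm_num
  · obtain ⟨g, hgx, hgQ, hgne⟩ := hfuse
    have hgH : g ∈ centralizer ({x} : Set G) := mem_centralizer_singleton_iff.mpr hgx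
    have hq : g * z * g⁻¹ ∈ Qx Q x := mem_inf.mpr ⟨hgQ, mul_mem (mul_mem hgH hzH) (inv_mem hgH)⟩
    have hval : QuotientGroup.mk' N ⟨g, hgH⟩ * zb * (QuotientGroup.mk' N ⟨g, hgH⟩)⁻¹ =
        ((j ⟨_, hq⟩ : C) : (centralizer ({x} : Set G)) ⧸ N) := by
      rw [hzb, ← map_inv, ← map_mul, ← map_mul]
      exact congrArg _ (Subtype.ext rfl)
    refine ⟨QuotientGroup.mk' N ⟨g, hgH⟩, ⟨hval ▸ (j ⟨_, hq⟩).2, ?_⟩, fun e => hgne ?_⟩
    · rw [show (⟨_, _⟩ : C) = j ⟨_, hq⟩ from Subtype.ext hval]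
      exact hjr ▸ ⟨_, rfl⟩
    · have e1 : j ⟨_, hq⟩ = j ⟨z, hzQ⟩ := Subtype.ext (hval.symm.trans e)
      exact congrArg Subtype.val (hj e1)

end Three

end Cfsg.Agent.H92.SuzSection
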