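import Cfsg.Agent.H13.ConwayFive.Main
import Cfsg.Agent.H43.JTwo.ThreeB

/-!
An element of order three of the centraliser of `z` commuting with a standard element of order
five: it lies in the derived subgroup of its centraliser, and its centraliser fuses `z` into `Q`.
Both facts are read in the Hall–Janko quotient of the centraliser of the element of order five.
-/

set_option autoImplicit false
set_option linter.style.haveILetI false
set_option linter.unusedSectionVars false
set_option maxRecDepth 100000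

namespace Cfsg.Agent.H92.SuzSection

open scoped commutatorElement
open QuadraticMap Cfsg.Agent.Orthogonal Cfsg.Agent.H73.Conway Cfsg.Agent.H92.ExtraForm
  Cfsg.Agent.H13.ConwayFive Subgroup

/-- The central element of order three of a Sylow subgroup lies in the derived centraliser. -/
theorem mem_commutator_cen {G : Type*} [Group G] [Finite G] {z : G} {Q : Subgroup G}
    (D : H43.JTwo.JSet z Q) {ρ : G} (hρ : orderOf ρ = 3) (hρz : ρ * z = z * ρ) :
    ρ ∈ ⁅centralizer ({ρ} : Set G), centralizer ({ρ} : Set G)⁆ := by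
  haveI : Fact (Nat.Prime 3) := ⟨by norm_num⟩
  obtain ⟨t, htt, htz, htQ⟩ := D.exists_t
  obtain ⟨a, σ, L, S⟩ := D.exists_lset htt htz htQ
  set K := centralizer ({ρ} : Set G) with hK
  obtain ⟨T, hT⟩ := H43.JTwo.exists_sylow_mem (p := 3) (G := K)
    (v := ⟨ρ, mem_centralizer_singleton_iff.mpr rfl⟩) (by rw [orderOf_mk]; exact hρ)
  have hTc : Nat.card ((T : Subgroup K).map K.subtype) = 27 := by
    rw [← Nat.card_congr ((T : Subgroup K).equivMapOfInjective _ K.subtype_injective).toEquiv,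
      H43.JTwo.sylow_card_of (k := 3) (m := 40) (by rw [(D.card_cen_three hρ hρz).2]; norm_num)
        (by norm_num) T]
    norm_num
  obtain ⟨P, hP⟩ := (IsPGroup.of_card (n := 3) (by rw [hTc]; norm_num) :
    IsPGroup 3 ((T : Subgroup K).map K.subtype)).exists_le_sylow
  have hPc : Nat.card (P : Subgroup G) = 27 := by
    rw [H43.JTwo.sylow_card_of (k := 3) (m := 22400) (by rw [(D.card_eq S).1]; norm_num)
      (by norm_num) P]
    norm_num
  have heq : (T : Subgroup K).map K.subtype = P := eq_of_le_of_card_ge hP (by rw [hPc, hTc])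
  have Z : H43.JTwo.ZThree D t a σ L ρ P :=
    ⟨S, hρ, hρz, heq ▸ ⟨_, hT, rfl⟩, heq ▸ map_subtype_le _⟩
  have hmem : (⟨ρ, Z.hρP⟩ : (P : Subgroup G)) ∈ commutator (P : Subgroup G) := by
    rw [Z.extraspecial.1.2.2, mem_center_iff]
    exact fun q => Subtype.ext (mem_centralizer_singleton_iff.mp (Z.P_le q.2))
  have h2 : ρ ∈ (commutator (P : Subgroup G)).map (P : Subgroup G).subtype := ⟨_, hmem, rfl⟩
  rw [Subgroup.map_subtype_commutator] at h2
  exact commutator_mono Z.P_le Z.P_le h2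

variable {G : Type*} [Group G] [Finite G] {z : G} {Q : Subgroup G}
  {h : H73.Conway.Setup z Q} {b : G} (F : Five h b) {s w : G} (P : Pair h s w)
include F P

theorem exists_jset_hom {f : G} (hfz : f * z * f⁻¹ = z * s) {K : Subgroup G} (hLK : Lv h xF ≤ K)
    (hfK : f ∈ K) {H : Type*} [Group H] [Finite H] (φ : K →* H)
    (hinj : ∀ k : K, (k : G) ∈ Lv h xF → φ k = 1 → (k : G) = 1)
    (hcent : ∀ (x : H) (c : K), (c : G) = z → x * φ c = φ c * x →
      ∃ k : K, (k : G) ∈ Lv h xF ∧ φ k = x)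
    (hconj : ∀ k c : K, (k : G) ∈ Lv h xF → k * k = 1 → (c : G) = z → IsConj (φ k) (φ c) →
      IsConj (k : G) z) :
    ∃ hzK : z ∈ K,
      Nonempty (H43.JTwo.JSet (φ ⟨z, hzK⟩) (((Qp h xM).subgroupOf K).map φ)) := by
  classical
  have hsub : Qp h xM ≤ Lv h xF := fun q hq => (mem_Lv_Q h penta_F hq.1).mpr hq
  have hzP : z ∈ Qp h xM := ⟨h.hzQ, fun i => by rw [h.π_z, ← polar_eq, polar_zero_left]⟩
  let ι : ∀ k, k ∈ Lv h xF → K := fun k hk => ⟨k, hLK hk⟩
  have hval : ∀ {k : G} (hk : k ∈ Lv h xF), ((ι k hk : K) : G) = k := fun hk => rfl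
  have hinj' : ∀ {k l : G} (hk : k ∈ Lv h xF) (hl : l ∈ Lv h xF),
      φ (ι k hk) = φ (ι l hl) → k = l := by
    intro k l hk hl e
    have e1 : φ (ι k hk * (ι l hl)⁻¹) = 1 := by rw [map_mul, map_inv, e, mul_inv_cancel]
    have := hinj _ (mul_mem hk (inv_mem hl)) e1
    exact mul_inv_eq_one.mp this
  set zK : K := ι z (hsub hzP) with hzK
  set z' := φ zK
  set Q' : Subgroup H := ((Qp h xM).subgroupOf K).map φ with hQ'
  have hmemQ : ∀ {x : H}, x ∈ Q' → ∃ q, ∃ hq : q ∈ Qp h xM, φ (ι q (hsub hq)) = x := by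
    rintro x ⟨⟨q, hqK⟩, hq, rfl⟩
    exact ⟨q, hq, rfl⟩
  have hmkQ : ∀ {q : G} (hq : q ∈ Qp h xM), φ (ι q (hsub hq)) ∈ Q' := fun {q} hq =>
    ⟨ι q (hsub hq), hq, rfl⟩
  have hz1 : z' ≠ 1 := fun e => h.z_ne (hinj zK (hsub hzP) e)
  have hzz : z' * z' = 1 := by
    rw [← map_mul, show zK * zK = 1 from Subtype.ext h.zz, map_one]
  have hord : orderOf z' = 2 := by
    haveI : Fact (Nat.Prime 2) := ⟨Nat.prime_two⟩
    exact orderOf_eq_prime (by rw [pow_two, hzz]) hz1
  have hcomm : ∀ {k : G} (hk : k ∈ Lv h xF), φ (ι k hk) * z' = z' * φ (ι k hk) := fun {k} hk => by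
    rw [← map_mul, ← map_mul, show ι k hk * zK = zK * ι k hk from Subtype.ext (Lv_z h hk)]
  have hle : ∀ {x : H}, x ∈ Q' → x * z' = z' * x := fun hx => by
    obtain ⟨q, hq, rfl⟩ := hmemQ hx
    exact hcomm (hsub hq)
  have S : H43.JTwo.Setup z' Q' := by
    refine ⟨hord, ?_, fun x hx => mem_centralizer_singleton_iff.mpr (hle hx), hmkQ hzP, ?_, ?_, ?_,
      ?_, ?_, ?_⟩
    · rw [← card_Qp h dual_M]
      refine (Nat.card_congr (Equiv.ofBijective
        (fun q : Qp h xM => (⟨_, hmkQ q.2⟩ : Q')) ⟨fun q r e => ?_, fun x => ?_⟩)).symm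
      · exact Subtype.ext (hinj' (hsub q.2) (hsub r.2) (congrArg Subtype.val e))
      · obtain ⟨q, hq, e⟩ := hmemQ x.2
        exact ⟨⟨q, hq⟩, Subtype.ext e⟩
    · intro c hc
      obtain ⟨k, hk, rfl⟩ := hcent c zK rfl (hc z' (hmkQ hzP)).symm
      have hall : ∀ q ∈ Qp h xM, q * (k : G) = (k : G) * q := by
        intro q hq
        have e : φ (ι q (hsub hq) * k) = φ (k * ι q (hsub hq)) := by
          rw [map_mul, map_mul]; exact hc _ (hmkQ hq)
        exact hinj' (k := q * k) (l := k * q) (mul_mem (hsub hq) hk) (mul_mem hk (hsub hq)) e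
      rcases level_cQ h hk hall with e | e
      · left; rw [show k = 1 from Subtype.ext e, map_one]
      · right; rw [show k = zK from Subtype.ext e]
    · intro c hc x hx
      obtain ⟨k, hk, rfl⟩ := hcent c zK rfl hc
      obtain ⟨q, hq, rfl⟩ := hmemQ hx
      have hkz := Lv_z h hk
      have hq' : (k : G) * q * (k : G)⁻¹ ∈ Qp h xM := by
        refine ⟨h.norm _ hkz q hq.1, fun i => ?_⟩
        rw [h.ρ_π _ hkz q hq.1, ← (rho_stab h penta_F hk).1 i, pV_app, hq.2]
      have := hmkQ hq'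
      rw [show ι _ (hsub hq') = k * ι q (hsub hq) * k⁻¹ from Subtype.ext rfl, map_mul, map_mul,
        map_inv] at this
      exact this
    · intro x hx
      obtain ⟨q, hq, rfl⟩ := hmemQ hx
      rw [← map_mul]
      rcases two_cases' (phi (h.π q)) with e | e <;> have hsq := h.sq q hq.1 <;> rw [e] at hsq
      · left; rw [show ι q (hsub hq) * ι q (hsub hq) = 1 from Subtype.ext hsq, map_one]
      · right; rw [show ι q (hsub hq) * ι q (hsub hq) = zK from Subtype.ext hsq]
    · intro x hx y hy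
      obtain ⟨q, hq, rfl⟩ := hmemQ hx
      obtain ⟨r, hr, rfl⟩ := hmemQ hy
      have e := h.comm r hr.1 q hq.1
      rw [← map_mul, ← map_mul]
      rcases two_cases' (polar (⇑phi) (h.π r) (h.π q)) with c | c <;> rw [c] at e <;>
        simp only [zp, one_ne_zero, if_false, if_true, mul_one] at e
      · left; congr 1; exact Subtype.ext e
      · right
        rw [← map_mul]
        congr 1
        refine Subtype.ext ?_
        show q * r = z * (r * q)
        rw [e, h.le _ (mul_mem hr.1 hq.1)]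
    · rw [← card_Lv h penta_F dual_M]
      refine (Nat.card_congr (Equiv.ofBijective
        (fun k : Lv h xF => (⟨φ (ι k k.2), mem_centralizer_singleton_iff.mpr (hcomm k.2)⟩ :
          centralizer ({z'} : Set H))) ⟨fun k l e => ?_, fun x => ?_⟩)).symm
      · exact Subtype.ext (hinj' k.2 l.2 (congrArg Subtype.val e))
      · obtain ⟨k, hk, e⟩ := hcent x zK rfl (mem_centralizer_singleton_iff.mp x.2)
        exact ⟨⟨k, hk⟩, Subtype.ext e⟩
    · refine ⟨_, hmkQ (F.s_mem P), ?_, fun e => P.s_ne (hinj _ (hsub (F.s_mem P)) e),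
        fun e => P.s_ne_z (hinj' (hsub (F.s_mem P)) (hsub hzP) e)⟩
      rw [← map_mul, show ι s (hsub (F.s_mem P)) * ι s (hsub (F.s_mem P)) = 1 from
        Subtype.ext P.ss, map_one]
  obtain ⟨D⟩ := S.exists_coord
  have hzs : z * s ∈ Qp h xM := mul_mem hzP (F.s_mem P)
  have hfe : φ ⟨f, hfK⟩ * z' * (φ ⟨f, hfK⟩)⁻¹ = φ (ι (z * s) (hsub hzs)) := by
    rw [← map_inv, ← map_mul, ← map_mul]
    congr 1
    exact Subtype.ext hfz
  obtain ⟨x, hxL, hxx, hx1, hxz⟩ := F.exists_x P
  obtain ⟨J⟩ := D.exists_jset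
    ⟨φ ⟨f, hfK⟩, by rw [hfe]; exact hmkQ hzs,
      fun e => P.s_ne (mul_eq_left.mp (hinj' (hsub hzs) (hsub hzP) (hfe.symm.trans e)))⟩
    ⟨φ (ι x hxL), z', by
      haveI : Fact (Nat.Prime 2) := ⟨Nat.prime_two⟩
      exact orderOf_eq_prime
        (by rw [pow_two, ← map_mul, show ι x hxL * ι x hxL = 1 from Subtype.ext hxx, map_one])
        (fun e => hx1 (hinj _ hxL e)), hord,
      fun e => hxz (hconj _ zK hxL (Subtype.ext hxx) rfl e)⟩
  exact ⟨hLK (hsub hzP), ⟨J⟩⟩

omit P in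
/-- The two facts about `x`. -/
theorem fuse_and_comm {x : G} (hx : orderOf x = 3) (hxb : x * b = b * x) (hxz : x * z = z * x) :
    (∃ g : G, g * x = x * g ∧ g * z * g⁻¹ ∈ Q ∧ g * z * g⁻¹ ≠ z) ∧
      x ∈ ⁅centralizer ({x} : Set G), centralizer ({x} : Set G)⁆ := by
  classical
  obtain ⟨s, w, P⟩ := exists_setup_pair h
  obtain ⟨q, hq, hd, hfb, hfz, hfs⟩ := F.exists_f P
  set C := centralizer ({b} : Set G) with hC
  have hLC : Lv h xF ≤ C := fun k hk => mem_centralizer_singleton_iff.mpr (F.comm_H0 hk)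
  have hfC : w * q * w⁻¹ ∈ C := mem_centralizer_singleton_iff.mpr hfb
  set N : Subgroup C := (zpowers b).subgroupOf C with hN
  haveI hNn : N.Normal := ⟨fun n hn g => by
    have e : g * n * g⁻¹ = n := by
      refine Subtype.ext ?_
      obtain ⟨i, hi⟩ := exists_nat_pow (show (n : G) ∈ zpowers b from hn)
      show (g : G) * (n : G) * (g : G)⁻¹ = (n : G)
      rw [← hi, ((show Commute (g : G) b from
        mem_centralizer_singleton_iff.mp g.2).pow_right i).eq, mul_inv_cancel_right]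
    rwa [e]⟩
  have hmk : ∀ {u v : C}, QuotientGroup.mk' N u = QuotientGroup.mk' N v →
      ∃ i : ℕ, (v : G) = b ^ i * (u : G) := by
    intro u v e
    obtain ⟨i, hi⟩ := exists_nat_pow (show ((u⁻¹ * v : C) : G) ∈ zpowers b from
      (QuotientGroup.eq (s := N) (a := u) (b := v)).mp e)
    refine ⟨i, ?_⟩
    rw [((show Commute (u : G) b from mem_centralizer_singleton_iff.mp u.2).pow_right i).eq.symm,
      hi]
    simp
  have hbC : b ∈ C := mem_centralizer_singleton_iff.mpr rfl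
  obtain ⟨hzC, ⟨D⟩⟩ := exists_jset_hom F P hfz hLC hfC (QuotientGroup.mk' N)
    (fun k hk e => by
      obtain ⟨i, hi⟩ := hmk (u := k) (v := 1) (e.trans (map_one _).symm)
      have : b ^ i = (k : G)⁻¹ := eq_inv_of_mul_eq_one_left hi.symm
      rw [F.eq_one_of_pow (this ▸ inv_mem hk)] at this
      exact inv_eq_one.mp this.symm)
    (fun x c hc e => by
      obtain ⟨g, rfl⟩ := QuotientGroup.mk'_surjective N x
      have e' : QuotientGroup.mk' N (g * c * g⁻¹) = QuotientGroup.mk' N c := by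
        rw [map_mul, map_mul, map_inv, e, mul_inv_cancel_right]
      obtain ⟨i, hi⟩ := hmk e'.symm
      rw [Subgroup.coe_mul, Subgroup.coe_mul, Subgroup.coe_inv, hc] at hi
      rw [F.pow_one_of_sq F.bz h.zz (by rw [conj_mul, h.zz, mul_one, mul_inv_cancel]) hi,
        one_mul] at hi
      have hgb : (g : G) * b = b * (g : G) := mem_centralizer_singleton_iff.mp g.2
      obtain ⟨j, hj⟩ := F.decomp (mul_inv_eq_iff_eq_mul.mp hi) hgb
      refine ⟨g * ⟨b ^ j, pow_mem hbC j⟩, hj, ?_⟩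
      rw [map_mul, show QuotientGroup.mk' N ⟨b ^ j, pow_mem hbC j⟩ = 1 from
        (QuotientGroup.eq_one_iff _).mpr (pow_mem (mem_zpowers b) _), mul_one])
    (fun k c _ hkk hc e => by
      obtain ⟨x, hx⟩ := isConj_iff.mp e
      obtain ⟨g, rfl⟩ := QuotientGroup.mk'_surjective N x
      rw [← map_inv, ← map_mul, ← map_mul] at hx
      obtain ⟨i, hi⟩ := hmk hx.symm
      rw [Subgroup.coe_mul, Subgroup.coe_mul, Subgroup.coe_inv, hc] at hi
      have hkk' : (k : G) * (k : G) = 1 := congrArg Subtype.val hkk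
      rw [F.pow_one_of_sq F.bz h.zz (by rw [conj_mul, hkk', mul_one, mul_inv_cancel]) hi,
        one_mul] at hi
      exact isConj_iff.mpr ⟨g, hi⟩)
  set φ := QuotientGroup.mk' N with hφ
  set xC : C := ⟨x, mem_centralizer_singleton_iff.mpr hxb⟩ with hxC
  have hx3 : x ^ 3 = 1 := hx ▸ pow_orderOf_eq_one x
  have hpow : ∀ i : ℕ, (b ^ i) ^ 3 = 1 → b ^ i = 1 := fun i e => by
    calc b ^ i = ((b ^ i) ^ 3) ^ 2 * ((b ^ 5) ^ i)⁻¹ := by
          rw [eq_mul_inv_iff_mul_eq, ← pow_mul, ← pow_mul, ← pow_mul, ← pow_add]; ring_nf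
      _ = 1 := by rw [e, F.b5]; simp
  have hxbar : orderOf (φ xC) = 3 := by
    haveI : Fact (Nat.Prime 3) := ⟨by norm_num⟩
    refine orderOf_eq_prime (by rw [← map_pow, show xC ^ 3 = 1 from Subtype.ext hx3, map_one]) ?_
    intro e
    obtain ⟨i, hi⟩ := exists_nat_pow (show (xC : G) ∈ zpowers b from
      (QuotientGroup.eq_one_iff (N := N) xC).mp e)
    have := hpow i (by rw [hi]; exact hx3)
    rw [hi] at this
    change x = 1 at this
    rw [this, orderOf_one] at hx
    norm_num at hx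
  have hxzbar : φ xC * φ ⟨z, hzC⟩ = φ ⟨z, hzC⟩ * φ xC := by
    rw [← map_mul, ← map_mul, show xC * ⟨z, hzC⟩ = ⟨z, hzC⟩ * xC from Subtype.ext hxz]
  -- an element commuting with the image of `x` comes from one commuting with `x`
  have hlift : ∀ g : C, φ g * φ xC = φ xC * φ g → (g : G) * x = x * (g : G) := by
    intro g e
    obtain ⟨i, hi⟩ := hmk (u := xC) (v := g * xC * g⁻¹)
      (by rw [map_mul, map_mul, map_inv, e, mul_inv_cancel_right])
    change (g : G) * x * (g : G)⁻¹ = b ^ i * x at hi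
    have h3 : (b ^ i) ^ 3 = 1 := by
      have := congrArg (· ^ 3) hi
      simp only [conj_pow, hx3, mul_one, mul_inv_cancel] at this
      rw [((show Commute b x from hxb.symm).pow_left i).mul_pow, hx3, mul_one] at this
      exact this.symm
    rw [hpow i h3, one_mul] at hi
    exact mul_inv_eq_iff_eq_mul.mp hi
  refine ⟨?_, ?_⟩
  · obtain ⟨a, a', ψ, R⟩ := D.exists_rset hxbar hxzbar
    obtain ⟨p, q', hpq, hap, hbq, -, -⟩ := R.pts
    obtain ⟨c, hcx, hcz⟩ := R.fuse_za
    obtain ⟨g, rfl⟩ := QuotientGroup.mk'_surjective N c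
    have hzQ' : φ ⟨z, hzC⟩ ∈ ((Qp h xM).subgroupOf C).map φ := D.base.hzQ
    obtain ⟨r, hr, hre⟩ : φ ⟨z, hzC⟩ * a ∈ ((Qp h xM).subgroupOf C).map φ :=
      mul_mem hzQ' (hap ▸ D.mem p)
    have hne : φ ⟨z, hzC⟩ * a ≠ φ ⟨z, hzC⟩ := fun e => (D.s_ne p).1 (hap.trans (mul_eq_left.mp e))
    obtain ⟨i, hi⟩ := hmk (u := r) (v := g * ⟨z, hzC⟩ * g⁻¹) (by
      rw [map_mul, map_mul, map_inv, hcz, hre])
    change (g : G) * z * (g : G)⁻¹ = b ^ i * (r : G) at hi
    have hrQ : (r : G) ∈ Q := (show (r : G) ∈ Qp h xM from hr).1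
    have hb2 : b ^ (2 * i) ∈ Q := by
      have := congrArg (fun t => t * t) hi
      simp only [conj_mul, h.zz, mul_one, mul_inv_cancel] at this
      rw [← pow_two (b ^ i * (r : G)), ((show Commute b (r : G) from
        (mem_centralizer_singleton_iff.mp r.2).symm).pow_left i).mul_pow, ← pow_mul,
        Nat.mul_comm i 2] at this
      rw [eq_inv_of_mul_eq_one_left this.symm]
      exact inv_mem (pow_mem hrQ 2)
    have hbi : b ^ i = 1 := by
      have h4 := h.pow_four hb2
      calc b ^ i = ((b ^ (2 * i)) ^ 4) ^ 2 * ((b ^ 5) ^ (3 * i))⁻¹ := by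
            rw [eq_mul_inv_iff_mul_eq, ← pow_mul, ← pow_mul, ← pow_mul, ← pow_add]; ring_nf
        _ = 1 := by rw [h4, F.b5]; simp
    rw [hbi, one_mul] at hi
    refine ⟨g, hlift g hcx, hi ▸ hrQ, fun e => hne ?_⟩
    rw [← hcz, ← map_inv, ← map_mul, ← map_mul]
    exact congrArg φ (Subtype.ext e)
  · set C1 : Subgroup C := (centralizer ({x} : Set G)).subgroupOf C with hC1
    have hle : centralizer ({φ xC} : Set (C ⧸ N)) ≤ C1.map φ := fun c hc => by
      obtain ⟨g, rfl⟩ := QuotientGroup.mk'_surjective N c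
      exact ⟨g, mem_centralizer_singleton_iff.mpr (hlift g (mem_centralizer_singleton_iff.mp hc)),
        rfl⟩
    have h1 := commutator_mono hle hle (mem_commutator_cen D hxbar hxzbar)
    rw [← map_commutator] at h1
    obtain ⟨g, hg, hge⟩ := h1
    obtain ⟨i, hi⟩ := hmk (u := xC) (v := g) hge.symm
    change (g : G) = b ^ i * x at hi
    have h2 : (g : G) ∈ (⁅C1, C1⁆).map C.subtype := ⟨g, hg, rfl⟩
    rw [map_commutator] at h2
    have h3 : (g : G) ∈ ⁅centralizer ({x} : Set G), centralizer ({x} : Set G)⁆ :=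
      commutator_mono (map_le_iff_le_comap.mpr le_rfl) (map_le_iff_le_comap.mpr le_rfl) h2
    have h10 := pow_mem h3 10
    rwa [hi, ((show Commute b x from hxb.symm).pow_left i).mul_pow, ← pow_mul, Nat.mul_comm i 10,
      pow_mul, show b ^ 10 = (b ^ 5) ^ 2 from by rw [← pow_mul], F.b5, one_pow, one_pow, one_mul,
      show x ^ 10 = (x ^ 3) ^ 3 * x from by rw [← pow_mul, ← pow_succ], hx3, one_pow, one_mul] at h10

end Cfsg.Agent.H92.SuzSection
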