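import Cfsg.Agent.H92.SuzSection.Hyp
import Cfsg.Agent.H92.SuzSection.JTwoThree
import Cfsg.Agent.H73.Conway.Setup
import Cfsg.Agent.H45.SuzMain

/-!
In a group of Conway type the centraliser of an element of order three acting on the core with a
commutator of order eight is a covering group of the Suzuki group, given its uniqueness theorem.
-/

set_option autoImplicit false
set_option linter.style.haveILetI false
set_option linter.unusedSectionVars false
set_option maxRecDepth 100000
set_option synthInstance.maxSize 4000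

namespace Cfsg.Agent.H92.SuzSection

open QuadraticMap Cfsg.Agent.Orthogonal Cfsg.Agent.H73.Conway Cfsg.Agent.H92.ExtraForm
  Cfsg.Agent.H13.ConwayFive Subgroup
open scoped commutatorElement

universe u

/-- The uniqueness theorem of the Suzuki group, as used here. -/
def SuzUnique : Prop :=
  ∀ {S : Type u} [Group S] [Finite S] (z : S), orderOf z = 2 →
    ∀ (Q : Subgroup (centralizer ({z} : Set S))) [Q.Normal],
      Cfsg.generalizedFittingSubgroup (centralizer ({z} : Set S)) = Q →
      Cfsg.IsExtraspecial 2 Q → Nat.card Q = 2 ^ 7 →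
      ((centralizer ({z} : Set S)) ⧸ Q ≃*
        Cfsg.Omega (ZMod 2) (Cfsg.quadFormMinus 2 (ZMod 2) 1 1)) →
      (∃ g : S, (∃ hq : g * z * g⁻¹ ∈ centralizer ({z} : Set S),
        (⟨g * z * g⁻¹, hq⟩ : centralizer ({z} : Set S)) ∈ Q) ∧ g * z * g⁻¹ ≠ z) →
      Cfsg.Spor.IsoSuz S

variable {G : Type u} [Group G] [Finite G]

theorem xF_fix : ∀ v : V8, (∀ i, pV v (xF i) = 0) → af v = v := by decide +kernel

/-- A standard element of order five commuting with `x`. -/
theorem exists_five {z : G} {Q : Subgroup G} {h : H73.Conway.Setup z Q} {x : G} (T : Three h x) :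
    ∃ b : G, Five h b ∧ x * b = b * x := by
  obtain ⟨c, hc, hce⟩ := exists_lift h penta_M dual_F beta_even
  have hcz := Lv_z h hc
  have h5Q : c ^ 5 ∈ Q := (h.ρ_ker _ ((show Commute c z from hcz).pow_left 5).eq).mp
    (by rw [h.ρ_pow hcz, hce, beta_pow_five])
  have hb5 : (c ^ 16) ^ 5 = 1 := by
    rw [← pow_mul, show 16 * 5 = 5 * 4 * 4 from rfl, pow_mul, pow_mul, h.pow_four h5Q, one_pow]
  have hρ : h.ρ (c ^ 16) = beta := by
    rw [h.ρ_pow hcz, hce, show 16 = 5 * 3 + 1 from rfl, pow_succ, pow_mul, beta_pow_five,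
      one_pow, one_mul]
  have hxL : x ∈ Lv h xF := (mem_Lv h).mpr ⟨T.xz, fun q hq =>
    (T.mem_Qx hq.1).mpr ((af_fix _).mp (xF_fix _ hq.2))⟩
  exact ⟨c ^ 16, ⟨((show Commute c z from hcz).pow_left 16).eq, hb5, hρ⟩,
    commute_levels h penta_F penta_M dual_M hxL (pow_mem hc 16)⟩

set_option maxHeartbeats 800000 in
/-- The element can be put in standard form. -/
theorem exists_three {z : G} {Q : Subgroup G} (h : H73.Conway.Setup z Q) {x : G}
    (hx : orderOf x = 3) (hxz : x * z = z * x) {D : Subgroup G} (hDQ : D ≤ Q)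
    (cD : Nat.card D = 8) (naD : ¬ IsMulCommutative D)
    (hDc : ∀ q ∈ Q, q * (x * q⁻¹ * x⁻¹) ∈ D) :
    ∃ h' : H73.Conway.Setup z Q, Three h' x := by
  classical
  have hx3 : x ^ 3 = 1 := hx ▸ pow_orderOf_eq_one x
  set A := ((h.ρ x : O phi) : V8 ≃ₗ[ZMod 2] V8) with hA
  have hA3 : ∀ v, A (A (A v)) = v := fun v => by
    have e : (h.ρ x) ^ 3 = 1 := by rw [← h.ρ_pow hxz, hx3, h.ρ_one]
    rw [pow_succ, pow_two] at e
    rw [hA, ← mul_app', ← mul_app', e]
    rfl
  obtain ⟨a, b, hab⟩ : ∃ a b : D, a * b ≠ b * a := by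
    by_contra hne
    push Not at hne
    exact naD ⟨⟨hne⟩⟩
  have hzD : z ∈ D := by
    have hne : (a : G) * b ≠ b * a := fun e => hab (Subtype.ext e)
    have e := h.comm _ (hDQ a.2) _ (hDQ b.2)
    rcases two_cases' (polar (⇑phi) (h.π a) (h.π b)) with c | c <;> rw [c] at e <;>
      simp only [zp, one_ne_zero, if_false, if_true, mul_one] at e
    · exact absurd e.symm hne
    · rw [show z = ((a : G) * b)⁻¹ * (b * a) by rw [e, inv_mul_cancel_left]]
      exact mul_mem (inv_mem (mul_mem a.2 b.2)) (mul_mem b.2 a.2)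
  -- the image of `D` has four elements
  set W : Finset V8 := Finset.univ.filter fun v => ∃ d ∈ D, h.π d = v with hW
  have memW : ∀ {v}, v ∈ W ↔ ∃ d ∈ D, h.π d = v := fun {v} => by simp [hW]
  have hW4 : W.card ≤ 4 := by
    choose sec hsecD hsec using fun v : W => memW.mp v.2
    have hmem : ∀ (v : W) (i : ZMod 2), sec v * zp z i ∈ D := fun v i =>
      mul_mem (hsecD v) (by rcases two_cases' i with rfl | rfl <;> simp [zp, hzD])
    have hzp : ∀ i : ZMod 2, zp z i ∈ Q ∧ h.π (zp z i) = 0 := fun i => by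
      rcases two_cases' i with rfl | rfl <;> simp [zp, h.hzQ, h.π_one, h.π_z]
    have hinj : Function.Injective (fun p : W × ZMod 2 => (⟨_, hmem p.1 p.2⟩ : D)) := by
      intro p p' e
      have e' : sec p.1 * zp z p.2 = sec p'.1 * zp z p'.2 := congrArg Subtype.val e
      have hπ : ∀ (v : W) (i : ZMod 2), h.π (sec v * zp z i) = v := fun v i => by
        rw [h.π_mul _ (hDQ (hsecD v)) _ (hzp i).1, hsec, (hzp i).2, add_zero]
      have e1 : p.1 = p'.1 := Subtype.ext (by rw [← hπ p.1 p.2, e', hπ])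
      rw [← e1] at e'
      exact Prod.ext e1 (zp_inj h.z_ne (mul_left_cancel e'))
    have := Nat.card_le_card_of_injective _ hinj
    rw [Nat.card_prod, Nat.card_zmod, cD, Nat.card_eq_fintype_card, Fintype.card_coe] at this
    omega
  have hIW : ∀ v, v + A v ∈ W := fun v => by
    obtain ⟨q, hq, hqv⟩ := h.π_surj v
    refine memW.mpr ⟨_, hDc q hq, ?_⟩
    rw [h.π_mul _ hq _ (h.norm x hxz _ (inv_mem hq)), h.ρ_π x hxz _ (inv_mem hq), h.π_inv hq, hqv]
  -- a moved vector
  obtain ⟨v, hv⟩ : ∃ v, v + A v ≠ 0 := by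
    by_contra hne
    push Not at hne
    have hρ : h.ρ x = 1 := O.ext_app fun v => ((eq_of_add_eq_zero' (hne v))).symm
    have h4 := h.pow_four ((h.ρ_ker x hxz).mp hρ)
    rw [pow_succ, hx3, one_mul] at h4
    rw [h4, orderOf_one] at hx
    norm_num at hx
  set i := v + A v with hi
  clear_value i
  have hmove : A i ≠ i := by
    intro e
    have h1 : A v = v + i := by rw [hi, ← add_assoc, add_self', zero_add]
    have h2 : A (A v) = v := by rw [h1, map_add, e, h1, add_assoc, add_self', add_zero]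
    have h3 := hA3 v
    rw [h2] at h3
    exact hv (by rw [hi, h3, add_self'])
  have hAi : A i ≠ 0 := fun e => hv ((LinearEquiv.map_eq_zero_iff A).mp e)
  have hiW : i ∈ W := by rw [hi]; exact hIW v
  have hAiW : A i ∈ W := by rw [hi, map_add]; exact hIW (A v)
  have hsumW : i + A i ∈ W := hIW i
  have h0W : (0 : V8) ∈ W := memW.mpr ⟨1, one_mem _, h.π_one⟩
  have hs0 : i + A i ≠ 0 := fun e => hmove (eq_of_add_eq_zero' e).symm
  have hWeq : W = {0, i, A i, i + A i} := by
    refine (Finset.eq_of_subset_of_card_le ?_ ?_).symm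
    · intro w hw
      simp only [Finset.mem_insert, Finset.mem_singleton] at hw
      rcases hw with rfl | rfl | rfl | rfl <;> assumption
    · refine hW4.trans (le_of_eq ?_)
      rw [Finset.card_insert_of_notMem, Finset.card_insert_of_notMem,
        Finset.card_insert_of_notMem, Finset.card_singleton]
      · simp only [Finset.mem_singleton]
        exact fun e => hv (add_eq_right.mp e.symm)
      · simp only [Finset.mem_insert, Finset.mem_singleton, not_or]
        exact ⟨hmove.symm, fun e => hAi (left_eq_add.mp e)⟩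
      · simp only [Finset.mem_insert, Finset.mem_singleton, not_or]
        exact ⟨hv.symm, hAi.symm, hs0.symm⟩
  have hpia : pV i (A i) = 1 := by
    have hne : pV (h.π a) (h.π b) = 1 := (two_cases' _).resolve_left fun c =>
      hab (Subtype.ext ((h.commute_iff (hDQ a.2) (hDQ b.2)).mpr (by rw [polar_eq, c])))
    have ha : h.π a ∈ ({0, i, A i, i + A i} : Finset V8) := hWeq ▸ memW.mpr ⟨a, a.2, rfl⟩
    have hb : h.π b ∈ ({0, i, A i, i + A i} : Finset V8) := hWeq ▸ memW.mpr ⟨b, b.2, rfl⟩
    have hself : ∀ u : V8, pV u u = 0 := by decide +kernel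
    have hadd : ∀ u w w' : V8, pV u (w + w') = pV u w + pV u w' := fun u w w' => by
      rw [pV_comm, pV_add, pV_comm w u, pV_comm w' u]
    have hz' : ∀ u : V8, pV 0 u = 0 := by decide +kernel
    simp only [Finset.mem_insert, Finset.mem_singleton] at ha hb
    refine (two_cases' _).resolve_left fun c0 => ?_
    have c1 : pV (A i) i = 0 := by rw [pV_comm, c0]
    have hz'' : ∀ u : V8, pV u 0 = 0 := fun u => by rw [pV_comm, hz']
    rcases ha with ea | ea | ea | ea <;> rcases hb with eb | eb | eb | eb <;>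
      rw [ea, eb] at hne <;>
      simp [pV_add, hadd, hself, hz', hz'', c0, c1] at hne
  have hA2i : A (A i) = i + A i := by
    have : A (A i) ∈ ({0, i, A i, i + A i} : Finset V8) := by
      rw [← hWeq, hi, map_add, map_add]; exact hIW (A (A v))
    simp only [Finset.mem_insert, Finset.mem_singleton] at this
    rcases this with e | e | e | e
    · exact absurd ((LinearEquiv.map_eq_zero_iff A).mp e) hAi
    · have h3 := hA3 i
      rw [e] at h3
      exact absurd h3 hmove
    · exact absurd (A.injective e) hmove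
    · exact e
  have hAq : ∀ w, qV (A w) = qV w := fun w => by rw [← phi_eq, ← phi_eq]; exact O.map_app _ _
  have hqi : qV i = 1 := by
    have h1 : qV (i + A i) = qV i := by rw [← hA2i, hAq, hAq]
    rw [← phi_eq, map_add_polar, polar_eq, hpia, phi_eq, phi_eq, hAq,
      CharTwo.add_self_eq_zero, zero_add] at h1
    exact h1.symm
  -- the plane is moved onto the standard plane
  have hp : qV p0 = 1 ∧ qV (af p0) = 1 ∧ pV p0 (af p0) = 1 ∧ p0 + af p0 = af (af p0) := by
    decide +kernel
  have indep : ∀ u w : V8, pV u w = 1 → LinearIndependent (ZMod 2) ![u, w] := by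
    intro u w e
    refine LinearIndependent.pair_iff.mpr fun s t he => ?_
    have hself : ∀ u : V8, pV u u = 0 := by decide +kernel
    rcases two_cases' s with rfl | rfl <;> rcases two_cases' t with rfl | rfl <;>
      simp only [zero_smul, one_smul, zero_add, add_zero] at he
    · exact ⟨rfl, rfl⟩
    · rw [he, pV_comm] at e; exact absurd e (by revert u; decide +kernel)
    · rw [he] at e; exact absurd e (by revert w; decide +kernel)
    · rw [eq_of_add_eq_zero' he, hself] at e; exact absurd e zero_ne_one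
  obtain ⟨g, hg⟩ := exists_map_family phi_nondeg (v := ![i, A i]) (w := ![p0, af p0])
    (indep _ _ hpia) (indep _ _ hp.2.2.1)
    (fun j => by fin_cases j <;> simp [phi_eq, hqi, hAq, hp.1, hp.2.1])
    (fun j k hjk => by
      fin_cases j <;> fin_cases k <;> first
        | exact absurd rfl hjk
        | simp [polar_eq, hpia, hp.2.2.1, pV_comm (A i) i, pV_comm (af p0) p0])
  have g0 : (g : V8 ≃ₗ[ZMod 2] V8) i = p0 := hg 0
  have g1 : (g : V8 ≃ₗ[ZMod 2] V8) (A i) = af p0 := hg 1
  refine ⟨twist h g, hx, hxz, O.ext_app fun w => ?_⟩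
  show ((g * h.ρ x * g⁻¹ : O phi) : V8 ≃ₗ[ZMod 2] V8) w = _
  rw [alpha3_app, mul_app', mul_app']
  set k : V8 → V8 := fun w => (g : V8 ≃ₗ[ZMod 2] V8) (A (((g⁻¹ : O phi) : V8 ≃ₗ[ZMod 2] V8) w))
    with hk
  show k w = af w
  have hkadd : ∀ u w, k (u + w) = k u + k w := fun u w => by simp only [hk, map_add]
  have k0 : k p0 = af p0 := by
    simp only [hk]; rw [← g0, inv_app, g1, g0]
  have k1 : k (af p0) = af (af p0) := by
    simp only [hk]; rw [← g1, inv_app, hA2i, map_add, g0, g1, hp.2.2.2]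
  have k2 : k (af (af p0)) = p0 := by
    rw [← hp.2.2.2, hkadd, k0, k1, ← hp.2.2.2, add_left_comm, add_self', add_zero]
  have kinj : ∀ u, k (inj u) = inj u := by
    intro u
    have hperp : ∀ u, pV (inj u) p0 = 0 ∧ pV (inj u) (af p0) = 0 := by decide +kernel
    set y := ((g⁻¹ : O phi) : V8 ≃ₗ[ZMod 2] V8) (inj u) with hy
    have hgy : (g : V8 ≃ₗ[ZMod 2] V8) y = inj u := by
      rw [hy, ← mul_app', mul_inv_cancel]; rfl
    have y0 : pV y i = 0 := by rw [← pV_app g, hgy, g0]; exact (hperp u).1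
    have y1 : pV y (A i) = 0 := by rw [← pV_app g, hgy, g1]; exact (hperp u).2
    have hAp : ∀ s t, pV (A s) (A t) = pV s t := pV_app _
    have hadd : ∀ u w w' : V8, pV u (w + w') = pV u w + pV u w' := fun u w w' => by
      rw [pV_comm, pV_add, pV_comm w u, pV_comm w' u]
    have e0 : pV (y + A y) i = 0 := by
      rw [pV_add, y0, zero_add, ← hA3 i, hAp, hA2i, hadd, y0, y1, add_zero]
    have e1 : pV (y + A y) (A i) = 0 := by rw [pV_add, y1, hAp, y0, add_zero]
    have hz : y + A y = 0 := by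
      have hm := hIW y
      rw [hWeq] at hm
      simp only [Finset.mem_insert, Finset.mem_singleton] at hm
      have hself : ∀ u : V8, pV u u = 0 := by decide +kernel
      rcases hm with e | e | e | e
      · exact e
      · rw [e, hpia] at e1; exact absurd e1 one_ne_zero
      · rw [e, pV_comm, hpia] at e0; exact absurd e0 one_ne_zero
      · rw [e, pV_add, hpia, hself, add_zero] at e1; exact absurd e1 one_ne_zero
    show (g : V8 ≃ₗ[ZMod 2] V8) (A y) = inj u
    rw [← eq_of_add_eq_zero' hz, hgy]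
  have h0 : k 0 = 0 := by simp only [hk, map_zero]
  have haf : ∀ u w : V8, af (u + w) = af u + af w := fun u w => by
    rw [← alpha3_app, ← alpha3_app, ← alpha3_app, map_add]
  rw [← split w, hkadd, haf, kinj, af_inj]
  congr 1
  rcases plane_gen (prP w) (prP_prP w) with e | e | e | e <;> rw [e]
  · rw [h0]; exact ((af_fix 0).mpr (by decide +kernel)).symm
  · exact k0
  · exact k1
  · rw [k2]; revert e; intro _; decide +kernel

/-- The centraliser of a standard element of order three. -/
theorem finish (hU : SuzUnique.{u}) {z : G} {Q : Subgroup G} {h : H73.Conway.Setup z Q}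
    (hQ : Cfsg.IsExtraspecial 2 Q) {x : G} (T : Three h x) {H : Subgroup G}
    (hH : H = centralizer ({x} : Set G)) (N : Subgroup H) [N.Normal]
    (hN : ∀ w : H, w ∈ N ↔ (w : G) ∈ zpowers x) :
    Cfsg.IsQuasisimple H ∧ Cfsg.Spor.IsoSuz (H ⧸ N) := by
  subst hH
  obtain ⟨b, F, hxb⟩ := exists_five T
  obtain ⟨hfuse, hcomm⟩ := fuse_and_comm F T.x3 hxb T.xz
  obtain ⟨zb, hzb, Qb, hQn, hFb, hQb, hcQ, ⟨e⟩, hnwc⟩ := T.suz_hyp hQ hfuse N hN
  have hS := @hU _ _ _ zb hzb Qb hQn hFb hQb hcQ e hnwc
  refine ⟨?_, hS⟩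
  obtain ⟨eS⟩ := hS
  haveI : IsSimpleGroup Cfsg.Spor.Suz := H45.SuzMain.isSimple
  haveI : IsSimpleGroup (↥(centralizer ({x} : Set G)) ⧸ N) := eS.isSimpleGroup
  set Hx := ↥(centralizer ({x} : Set G))
  have hNc : N ≤ center Hx := fun n hn => mem_center_iff.mpr fun g => Subtype.ext (by
    have hc : Commute (g : G) x := mem_centralizer_singleton_iff.mp g.2
    obtain ⟨k, hk⟩ := mem_zpowers_iff.mp ((hN n).mp hn)
    show (g : G) * (n : G) = (n : G) * g
    rw [← hk]; exact (hc.zpow_right k).eq)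
  have hxN : (⟨x, mem_centralizer_singleton_iff.mpr rfl⟩ : Hx) ∈ N :=
    (hN _).mpr (mem_zpowers x)
  have hxcomm : (⟨x, mem_centralizer_singleton_iff.mpr rfl⟩ : Hx) ∈ commutator Hx := by
    rw [← map_subtype_commutator] at hcomm
    obtain ⟨w, hw, hwx⟩ := hcomm
    rwa [show w = ⟨x, mem_centralizer_singleton_iff.mpr rfl⟩ from Subtype.ext hwx] at hw
  have hNcomm : N ≤ commutator Hx := fun n hn => by
    obtain ⟨k, hk⟩ := mem_zpowers_iff.mp ((hN n).mp hn)
    rw [show n = (⟨x, mem_centralizer_singleton_iff.mpr rfl⟩ : Hx) ^ k from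
      Subtype.ext (by rw [Subgroup.coe_zpow]; exact hk.symm)]
    exact zpow_mem hxcomm k
  set π := QuotientGroup.mk' N
  have hπ : Function.Surjective π := QuotientGroup.mk'_surjective N
  have hnab : ¬ ∀ a c : Hx ⧸ N, a * c = c * a := by
    intro hab
    haveI : (zpowers zb).Normal := ⟨fun n hn g => by
      rwa [hab g n, mul_inv_cancel_right]⟩
    have htop : zpowers zb = ⊤ := (IsSimpleGroup.eq_bot_or_eq_top_of_normal _ inferInstance).resolve_left
      fun e => by
        rw [zpowers_eq_bot] at e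
        rw [e, orderOf_one] at hzb
        omega
    have h2 : Nat.card (Hx ⧸ N) = 2 := by
      rw [← card_top (G := Hx ⧸ N), ← htop, Nat.card_zpowers, hzb]
    have := ((card_subgroup_dvd_card Qb).trans (card_subgroup_dvd_card _))
    rw [hcQ, h2] at this
    norm_num at this
  have hcen : center Hx = N := by
    refine le_antisymm (fun c hc => ?_) hNc
    haveI : ((center Hx).map π).Normal := Subgroup.Normal.map inferInstance π hπ
    rcases IsSimpleGroup.eq_bot_or_eq_top_of_normal _ ‹((center Hx).map π).Normal› with e | e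
    · exact (QuotientGroup.eq_one_iff c).mp (mem_bot.mp (e ▸ mem_map_of_mem π hc))
    · refine absurd (fun a c => ?_) hnab
      obtain ⟨a', ha', rfl⟩ := e ▸ mem_top a
      obtain ⟨c', rfl⟩ := hπ c
      rw [← map_mul, ← map_mul, mem_center_iff.mp ha' c']
  have hperf : commutator Hx = ⊤ := by
    haveI : ((commutator Hx).map π).Normal := Subgroup.Normal.map inferInstance π hπ
    rcases IsSimpleGroup.eq_bot_or_eq_top_of_normal _ ‹((commutator Hx).map π).Normal› with e | e
    · refine absurd (fun a c => ?_) hnab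
      obtain ⟨a', rfl⟩ := hπ a
      obtain ⟨c', rfl⟩ := hπ c
      have h1 : ⁅π a', π c'⁆ = 1 := by
        rw [← map_commutatorElement]
        exact mem_bot.mp (e ▸ mem_map_of_mem π (commutator_mem_commutator (mem_top a') (mem_top c')))
      exact commutatorElement_eq_one_iff_mul_comm.mp h1
    · rw [eq_top_iff]
      intro g _
      obtain ⟨w, hw, hwg⟩ := e ▸ mem_top (π g)
      have := QuotientGroup.eq.mp hwg
      rw [← mul_inv_cancel_left w g]
      exact mul_mem hw (hNcomm this)
  exact ⟨⟨hperf⟩, MulEquiv.isSimpleGroup (QuotientGroup.quotientMulEquivOfEq hcen)⟩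

/-- The main theorem, in the frozen form. -/
theorem co_type (hU : SuzUnique.{u}) (z : G) (hz : orderOf z = 2)
    (Q : Subgroup (centralizer ({z} : Set G))) [Q.Normal]
    (hF : Cfsg.generalizedFittingSubgroup (centralizer ({z} : Set G)) = Q)
    (hQ : Cfsg.IsExtraspecial 2 Q) (hcard : Nat.card Q = 2 ^ 9)
    (e : (centralizer ({z} : Set G)) ⧸ Q ≃*
      Cfsg.Omega (ZMod 2) (Cfsg.quadFormPlus 4 (ZMod 2)))
    (hnwc : ∃ g : G, (∃ hq : g * z * g⁻¹ ∈ centralizer ({z} : Set G),
      (⟨g * z * g⁻¹, hq⟩ : centralizer ({z} : Set G)) ∈ Q) ∧ g * z * g⁻¹ ≠ z)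
    (X : Subgroup (centralizer ({z} : Set G))) (hX : Nat.card X = 3)
    (hQX : Nat.card ↥⁅Q, X⁆ = 8) (hQXna : ¬ IsMulCommutative ↥⁅Q, X⁆) (Xg : Subgroup G)
    (hXg : Xg = X.map (centralizer ({z} : Set G)).subtype)
    [(Xg.subgroupOf (centralizer (Xg : Set G))).Normal] :
    Cfsg.IsQuasisimple ↥(centralizer (Xg : Set G)) ∧
      Cfsg.Spor.IsoSuz (↥(centralizer (Xg : Set G)) ⧸ Xg.subgroupOf (centralizer (Xg : Set G))) := by
  obtain ⟨h⟩ := setup_of hz Q hF hQ hcard e hnwc
  haveI : Fact (Nat.Prime 3) := ⟨Nat.prime_three⟩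
  obtain ⟨⟨xC, hxX⟩, hx1⟩ : ∃ a : X, a ≠ 1 := by
    haveI : Nontrivial X := Finite.one_lt_card_iff_nontrivial.1 (by rw [hX]; norm_num)
    exact exists_ne 1
  have hX' : X = zpowers xC := by
    have h1 : zpowers (⟨xC, hxX⟩ : X) = ⊤ := zpowers_eq_top_of_prime_card hX hx1
    have h2 := congrArg (Subgroup.map X.subtype) h1
    rw [MonoidHom.map_zpowers, ← MonoidHom.range_eq_map, Subgroup.range_subtype] at h2
    exact h2.symm
  have hx : orderOf (xC : G) = 3 := by
    rw [orderOf_coe, ← Nat.card_zpowers, ← hX', hX]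
  set D := (⁅Q, X⁆).map (centralizer ({z} : Set G)).subtype with hD
  let eD := (⁅Q, X⁆).equivMapOfInjective _ (centralizer ({z} : Set G)).subtype_injective
  have cD : Nat.card D = 8 := by rw [← hQX]; exact Nat.card_congr eD.toEquiv.symm
  have naD : ¬ IsMulCommutative D := by
    intro hc
    exact hQXna ⟨⟨fun a b => eD.injective (by rw [map_mul, map_mul]; exact hc.is_comm.comm _ _)⟩⟩
  have hDQ : D ≤ Q.map (centralizer ({z} : Set G)).subtype := map_mono (commutator_le_left Q X)
  have hDc : ∀ q ∈ Q.map (centralizer ({z} : Set G)).subtype, q * ((xC : G) * q⁻¹ * (xC : G)⁻¹) ∈ D := by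
    rintro _ ⟨q, hq, rfl⟩
    refine ⟨⁅q, xC⁆, commutator_mem_commutator hq hxX, ?_⟩
    rw [commutatorElement_def]
    push_cast [Subgroup.coe_subtype]
    group
  obtain ⟨h', T⟩ := exists_three h hx (mem_centralizer_singleton_iff.mp xC.2) hDQ cD naD hDc
  have hQ' : Cfsg.IsExtraspecial 2 (Q.map (centralizer ({z} : Set G)).subtype) :=
    H92.isExtraspecial_of_mulEquiv (Q.equivMapOfInjective _ (centralizer ({z} : Set G)).subtype_injective) hQ
  have hXz : Xg = zpowers (xC : G) := by rw [hXg, hX', MonoidHom.map_zpowers]; rfl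
  refine finish hU hQ' T ?_ _ fun w => ?_
  · rw [hXz, zpowers_eq_closure, centralizer_closure]
  · subst hXz; exact mem_subgroupOf

end Cfsg.Agent.H92.SuzSection
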