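import Cfsg.Agent.H13.ConwayFive.Space

/-!
The hyperbolic space of dimension eight as an elliptic plane moved by a fixed three-cycle of the
first pentad and its orthogonal complement, an elliptic space of dimension six.
-/

set_option autoImplicit false
set_option linter.style.haveILetI false
set_option maxRecDepth 100000
set_option synthInstance.maxSize 4000

namespace Cfsg.Agent.H92.SuzSection

open QuadraticMap Cfsg.Agent.Orthogonal Cfsg.Agent.H73.Conway Cfsg.Agent.H13.ConwayFive

/-- The coordinate space of dimension six. -/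
abbrev W6 : Type := (Fin 2 ⊕ Fin 2) ⊕ Fin 2 → ZMod 2

/-- The elliptic form in dimension six. -/
noncomputable abbrev fm : QuadraticForm (ZMod 2) W6 := formMinus (ZMod 2) 2 1 1

/-- The two generators of the plane. -/
def p0 : V8 := xF 0 + xF 1

/-- The two generators of the plane. -/
def p1 : V8 := xF 1 + xF 2

/-- The third point of the pair orthogonal to the first two points. -/
def e1 : V8 := xM 0 + xM 1 + xM 2

/-- The fourth point of the pair orthogonal to the first two points. -/
def e2 : V8 := xM 0 + xM 1 + xM 3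

/-- A basis of the complement. -/
def bas : (Fin 2 ⊕ Fin 2) ⊕ Fin 2 → V8 :=
  Sum.elim (Sum.elim ![xF 3, xM 0] ![xF 4, xM 1]) ![e1, e2]

/-- The dual family. -/
def dualv : (Fin 2 ⊕ Fin 2) ⊕ Fin 2 → V8 :=
  Sum.elim (Sum.elim ![xF 4, xM 1] ![xF 3, xM 0]) ![e2, e1]

/-- The embedding of the complement, computably. -/
def inj (u : W6) : V8 :=
  u (.inl (.inl 0)) • xF 3 + u (.inl (.inl 1)) • xM 0 + u (.inl (.inr 0)) • xF 4 +
    u (.inl (.inr 1)) • xM 1 + u (.inr 0) • e1 + u (.inr 1) • e2

/-- The coordinates of a vector in the complement. -/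
def co (v : V8) : W6 := fun i => pV v (dualv i)

/-- The component in the plane. -/
def prP (v : V8) : V8 := pV v p1 • p0 + pV v p0 • p1

/-- The action of the three-cycle, computably. -/
def af (v : V8) : V8 :=
  let w := v + (pV (xF 1) v + pV (xF 2) v) • (xF 1 + xF 2)
  w + (pV (xF 0) w + pV (xF 1) w) • (xF 0 + xF 1)

/-- The form in dimension six, computably. -/
def qW (u : W6) : ZMod 2 :=
  u (.inl (.inl 0)) * u (.inl (.inr 0)) + u (.inl (.inl 1)) * u (.inl (.inr 1)) +
    (u (.inr 0) * u (.inr 0) + u (.inr 0) * u (.inr 1) + u (.inr 1) * u (.inr 1))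

theorem fm_eq (u : W6) : fm u = qW u := by
  simp [fm, formMinus_coe, Cfsg.quadFormMinus, qW, Fin.sum_univ_two, pow_two]

theorem inj_add (u w : W6) : inj (u + w) = inj u + inj w := by
  simp only [inj, Pi.add_apply, add_smul]
  abel

theorem inj_smul (c : ZMod 2) (u : W6) : inj (c • u) = c • inj u := by
  rcases two_cases' c with rfl | rfl
  · simp [inj]
  · simp

theorem co_add (v w : V8) : co (v + w) = co v + co w :=
  funext fun i => pV_add v w (dualv i)

theorem prP_add (v w : V8) : prP (v + w) = prP v + prP w := by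
  simp only [prP, pV_add, add_smul]
  abel

theorem co_inj : ∀ u : W6, co (inj u) = u := by decide +kernel

theorem prP_inj : ∀ u : W6, prP (inj u) = 0 := by decide +kernel

theorem co_prP : ∀ v : V8, co (prP v) = 0 := by decide +kernel

theorem prP_prP : ∀ v : V8, prP (prP v) = prP v := by decide +kernel

theorem split : ∀ v : V8, prP v + inj (co v) = v := by decide +kernel

theorem qV_split : ∀ v : V8, qV v = qV (prP v) + qW (co v) := by decide +kernel

theorem qV_inj : ∀ u : W6, qV (inj u) = qW u := by decide +kernel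

theorem pV_inj_prP : ∀ v : V8, ∀ i, pV (bas i) (prP v) = 0 := by decide +kernel

theorem af_fix : ∀ v : V8, af v = v ↔ prP v = 0 := by decide +kernel

theorem af_inj : ∀ u : W6, af (inj u) = inj u := by decide +kernel

theorem proj_poly : ∀ v : V8, inj (co v) = v + af v + af (af v) := by decide +kernel

theorem plane_auto : ∀ a : V8, prP a = a → qV a = 1 →
    a = p0 ∨ a = af p0 ∨ a = af (af p0) := by decide +kernel

theorem plane_gen : ∀ v : V8, prP v = v → v = 0 ∨ v = p0 ∨ v = af p0 ∨ v = af (af p0) := by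
  decide +kernel

theorem p0_facts : prP p0 = p0 ∧ qV p0 = 1 ∧ af p0 ≠ p0 := by decide +kernel

/-- The three-cycle. -/
noncomputable def alpha3 : O phi := Penta.refl xF 0 1 * Penta.refl xF 1 2

theorem alpha3_app (v : V8) : (alpha3 : V8 ≃ₗ[ZMod 2] V8) v = af v := by
  rw [alpha3, mul_app', penta_F.refl_app (by decide), penta_F.refl_app (by decide)]
  rfl

theorem alpha3_mem : alpha3 ∈ Penta.stab xM :=
  mul_mem (penta_F.refl_mem (by decide)) (penta_F.refl_mem (by decide))

theorem alpha3_perm : penta_F.perm ⟨alpha3, alpha3_mem⟩ = Equiv.swap 0 1 * Equiv.swap 1 2 := by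
  rw [← penta_F.refl_perm (show (0 : Fin 5) ≠ 1 by decide),
    ← penta_F.refl_perm (show (1 : Fin 5) ≠ 2 by decide), ← map_mul]
  rfl

/-- The embedding as a linear map. -/
def injL : W6 →ₗ[ZMod 2] V8 where
  toFun := inj
  map_add' := inj_add
  map_smul' := inj_smul

theorem co_smul (c : ZMod 2) (v : V8) : co (c • v) = c • co v := by
  rcases two_cases' c with rfl | rfl
  · rw [zero_smul, zero_smul]
    have h := co_add 0 0
    rw [add_zero, left_eq_add] at h
    exact h
  · rw [one_smul, one_smul]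

theorem prP_smul (c : ZMod 2) (v : V8) : prP (c • v) = c • prP v := by
  rcases two_cases' c with rfl | rfl
  · rw [zero_smul, zero_smul]
    decide +kernel
  · rw [one_smul, one_smul]

/-- An element commuting with the three-cycle. -/
abbrev Cen : Subgroup (O phi) := Subgroup.centralizer ({alpha3} : Set (O phi))

theorem cen_af {g : O phi} (hg : g ∈ Cen) (v : V8) :
    (g : V8 ≃ₗ[ZMod 2] V8) (af v) = af ((g : V8 ≃ₗ[ZMod 2] V8) v) := by
  rw [← alpha3_app, ← alpha3_app, ← mul_app', ← mul_app',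
    Subgroup.mem_centralizer_singleton_iff.mp hg]

theorem cen_fix {g : O phi} (hg : g ∈ Cen) (v : V8) :
    inj (co ((g : V8 ≃ₗ[ZMod 2] V8) v)) = (g : V8 ≃ₗ[ZMod 2] V8) (inj (co v)) := by
  rw [proj_poly v, proj_poly, map_add, map_add, cen_af hg, cen_af hg, cen_af hg]

theorem cen_prP {g : O phi} (hg : g ∈ Cen) (v : V8) :
    prP ((g : V8 ≃ₗ[ZMod 2] V8) v) = (g : V8 ≃ₗ[ZMod 2] V8) (prP v) := by
  have h1 := split ((g : V8 ≃ₗ[ZMod 2] V8) v)
  conv_rhs at h1 => rw [← split v, map_add, ← cen_fix hg]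
  exact add_right_cancel h1

theorem cen_inj {g : O phi} (hg : g ∈ Cen) (u : W6) :
    (g : V8 ≃ₗ[ZMod 2] V8) (inj u) = inj (co ((g : V8 ≃ₗ[ZMod 2] V8) (inj u))) := by
  rw [cen_fix hg, co_inj]

/-- The restriction to the complement, as a linear map. -/
def resLin (g : O phi) : W6 →ₗ[ZMod 2] W6 where
  toFun u := co ((g : V8 ≃ₗ[ZMod 2] V8) (inj u))
  map_add' u w := by rw [inj_add, map_add, co_add]
  map_smul' c u := by rw [inj_smul, map_smul, co_smul]; rfl

theorem resLin_comp {g k : O phi} (hk : k ∈ Cen) (u : W6) :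
    resLin (g * k) u = resLin g (resLin k u) := by
  show co (((g * k : O phi) : V8 ≃ₗ[ZMod 2] V8) (inj u)) =
    co ((g : V8 ≃ₗ[ZMod 2] V8) (inj (co ((k : V8 ≃ₗ[ZMod 2] V8) (inj u)))))
  rw [← cen_inj hk, mul_app']

theorem resLin_one (u : W6) : resLin 1 u = u := co_inj u

/-- The restriction to the complement. -/
def resEquiv (g : Cen) : W6 ≃ₗ[ZMod 2] W6 :=
  LinearEquiv.ofLinearMap (resLin g) (resLin (g⁻¹ : Cen))
    (LinearMap.ext fun u => by
      rw [LinearMap.comp_apply, ← resLin_comp (g⁻¹).2, ← Subgroup.coe_mul, mul_inv_cancel]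
      exact resLin_one u)
    (LinearMap.ext fun u => by
      rw [LinearMap.comp_apply, ← resLin_comp g.2, ← Subgroup.coe_mul, inv_mul_cancel]
      exact resLin_one u)

theorem res_mem (g : Cen) : resEquiv g ∈ O fm := fun u => by
  show fm (co ((g : V8 ≃ₗ[ZMod 2] V8) (inj u))) = fm u
  rw [fm_eq, fm_eq, ← qV_inj, ← cen_inj g.2, ← phi_eq, O.map_app, phi_eq, qV_inj]

/-- Restriction as a homomorphism. -/
def res : Cen →* O fm where
  toFun g := ⟨resEquiv g, res_mem g⟩
  map_one' := O.ext_app fun u => resLin_one u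
  map_mul' g k := O.ext_app fun u => resLin_comp k.2 u

theorem res_app (g : Cen) (u : W6) :
    (res g : W6 ≃ₗ[ZMod 2] W6) u = co ((g : V8 ≃ₗ[ZMod 2] V8) (inj u)) := rfl

theorem res_alpha : res ⟨alpha3, Subgroup.mem_centralizer_singleton_iff.mpr rfl⟩ = 1 :=
  O.ext_app fun u => by
    rw [res_app, alpha3_app, af_inj, co_inj]
    rfl

/-- The kernel of the restriction. -/
theorem res_ker (g : Cen) (h : res g = 1) :
    (g : O phi) = 1 ∨ (g : O phi) = alpha3 ∨ (g : O phi) = alpha3 * alpha3 := by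
  set φ := ((g : O phi) : V8 ≃ₗ[ZMod 2] V8)
  have hU : ∀ u, φ (inj u) = inj u := fun u => by
    rw [cen_inj g.2, ← res_app, h]
    rfl
  obtain ⟨hp, hq, -⟩ := p0_facts
  have hP : prP (φ p0) = φ p0 := by rw [cen_prP g.2, hp]
  have hq' : qV (φ p0) = 1 := by rw [← phi_eq, O.map_app, phi_eq, hq]
  have key : ∀ k : Cen, (∀ u, ((k : O phi) : V8 ≃ₗ[ZMod 2] V8) (inj u) = inj u) →
      φ p0 = ((k : O phi) : V8 ≃ₗ[ZMod 2] V8) p0 → (g : O phi) = (k : O phi) := by
    intro k hk e
    refine O.ext_app fun v => ?_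
    rw [← split v, map_add, map_add, hU, hk]
    congr 1
    rcases plane_gen (prP v) (prP_prP v) with e' | e' | e' | e' <;> rw [e']
    · simp
    · exact e
    · rw [cen_af g.2, cen_af k.2, e]
    · rw [cen_af g.2, cen_af g.2, cen_af k.2, cen_af k.2, e]
  have ha : alpha3 ∈ Cen := Subgroup.mem_centralizer_singleton_iff.mpr rfl
  rcases plane_auto _ hP hq' with e | e | e
  · exact Or.inl (key 1 (fun u => rfl) e)
  · refine Or.inr (Or.inl (key ⟨alpha3, ha⟩ (fun u => ?_) ?_))
    · rw [alpha3_app, af_inj]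
    · rw [e, alpha3_app]
  · have hm : alpha3 * alpha3 ∈ Cen := mul_mem ha ha
    refine Or.inr (Or.inr (key ⟨alpha3 * alpha3, hm⟩ (fun u => ?_) ?_))
    · rw [mul_app', alpha3_app, alpha3_app, af_inj, af_inj]
    · rw [e, mul_app', alpha3_app, alpha3_app]

/-- Extension by the identity on the plane, as a linear map. -/
def extLin (k : W6 ≃ₗ[ZMod 2] W6) : V8 →ₗ[ZMod 2] V8 where
  toFun v := prP v + inj (k (co v))
  map_add' v w := by rw [prP_add, co_add, map_add, inj_add]; abel
  map_smul' c v := by rw [prP_smul, co_smul, map_smul, inj_smul, RingHom.id_apply, smul_add]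

theorem extLin_comp (k l : W6 ≃ₗ[ZMod 2] W6) (v : V8) :
    extLin k (extLin l v) = extLin (k * l) v := by
  show prP (prP v + inj (l (co v))) + inj (k (co (prP v + inj (l (co v))))) =
    prP v + inj ((k * l) (co v))
  rw [prP_add, co_add, prP_prP, prP_inj, add_zero, co_prP, co_inj, zero_add]
  rfl

/-- Extension by the identity on the plane. -/
def extEquiv (k : W6 ≃ₗ[ZMod 2] W6) : V8 ≃ₗ[ZMod 2] V8 :=
  LinearEquiv.ofLinearMap (extLin k) (extLin k⁻¹)
    (LinearMap.ext fun v => by
      rw [LinearMap.comp_apply, extLin_comp, mul_inv_cancel]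
      exact split v)
    (LinearMap.ext fun v => by
      rw [LinearMap.comp_apply, extLin_comp, inv_mul_cancel]
      exact split v)

theorem ext_mem (k : O fm) : extEquiv k ∈ O phi := fun v => by
  show phi (prP v + inj ((k : W6 ≃ₗ[ZMod 2] W6) (co v))) = phi v
  rw [phi_eq, phi_eq, qV_split, qV_split v, prP_add, prP_prP, prP_inj, add_zero, co_add, co_prP,
    co_inj, zero_add, ← fm_eq, O.map_app, fm_eq]

/-- Extension as a homomorphism. -/
def ext : O fm →* O phi where
  toFun k := ⟨extEquiv k, ext_mem k⟩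
  map_one' := O.ext_app fun v => split v
  map_mul' k l := O.ext_app fun v => (extLin_comp k l v).symm

theorem ext_app (k : O fm) (v : V8) :
    (ext k : V8 ≃ₗ[ZMod 2] V8) v = prP v + inj ((k : W6 ≃ₗ[ZMod 2] W6) (co v)) := rfl

theorem ext_cen (k : O fm) : ext k ∈ Cen := by
  refine Subgroup.mem_centralizer_singleton_iff.mpr (O.ext_app fun v => ?_)
  rw [mul_app', mul_app', alpha3_app, alpha3_app, ext_app, ext_app]
  have h1 : ∀ v : V8, co (af v) = co v ∧ prP (af v) = af (prP v) := by decide +kernel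
  have h2 : ∀ a : V8, ∀ u : W6, af (a + inj u) = af a + inj u := by
    intro a u
    rw [← alpha3_app, map_add, alpha3_app, alpha3_app, af_inj]
  rw [(h1 v).1, (h1 v).2, h2]

theorem res_ext (k : O fm) : res ⟨ext k, ext_cen k⟩ = k := O.ext_app fun u => by
  rw [res_app, ext_app, prP_inj, zero_add, co_inj, co_inj]

theorem ext_rO {u : W6} (hu : fm u = 1) : ext (rO fm u) = rO phi (inj u) := O.ext_app fun v => by
  have hp : polar (⇑phi) (inj u) v = polar (⇑fm) u (co v) := by
    have key : ∀ u : W6, ∀ v : V8, pV (inj u) v = qW (u + co v) - qW u - qW (co v) := by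
      decide +kernel
    rw [polar_eq, key, polar, fm_eq, fm_eq, fm_eq]
  rw [ext_app, rO_app, rO_app, hu, show phi (inj u) = 1 by rw [phi_eq, qV_inj, ← fm_eq, hu],
    hp]
  simp only [sub_eq_add', ZModModule.sub_eq_add]
  rw [inj_add, inj_smul, ← add_assoc, split]

end Cfsg.Agent.H92.SuzSection
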